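import Mathlib.GroupTheory.GroupAction.Quotient
import Mathlib.GroupTheory.Index
import Mathlib.Data.Rat.Defs
import Mathlib.Algebra.BigOperators.Field
import Mathlib.Data.Rat.BigOperators
import Mathlib.SetTheory.Cardinal.Finite
import Mathlib.Algebra.Field.Rat

/-!
# Masses of action groupoids
-/

set_option linter.style.haveILetI false

universe u v w

namespace Groth.Agent.StkDesc10

open MulAction

/-- The mass of a finite action is the ratio of cardinalities. -/
theorem mass_finite {Γ : Type u} [Group Γ] [Finite Γ] {P : Type v} [MulAction Γ P] [Finite P]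
    [Fintype (orbitRel.Quotient Γ P)] :
    ∑ q : orbitRel.Quotient Γ P, ((Nat.card (stabilizer Γ q.out) : ℕ) : ℚ)⁻¹ =
      (Nat.card P : ℚ) / (Nat.card Γ : ℚ) := by
  classical
  have := Fintype.ofFinite P
  have := Fintype.ofFinite Γ
  have h : Nat.card P = ∑ q : orbitRel.Quotient Γ P, Nat.card (Γ ⧸ stabilizer Γ q.out) := by
    rw [Nat.card_congr (selfEquivSigmaOrbitsQuotientStabilizer Γ P), Nat.card_sigma]
  rw [h, Nat.cast_sum, Finset.sum_div]
  refine Finset.sum_congr rfl fun q _ => ?_
  have hΓ := (stabilizer Γ q.out).card_eq_card_quotient_mul_card_subgroup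
  have h0 : (Nat.card (Γ ⧸ stabilizer Γ q.out) : ℚ) ≠ 0 := Nat.cast_ne_zero.mpr Nat.card_pos.ne'
  rw [hΓ, Nat.cast_mul, ← div_div, div_self h0, one_div]

/-- The mass of an action fibred over a transitive family with finite fibres and finite stabilisers. -/
theorem mass_fibred {Γ : Type u} [Group Γ] {P : Type v} [MulAction Γ P] {B : Type w} [MulAction Γ B]
    (π : P → B) (hπ : ∀ (γ : Γ) (p : P), π (γ • p) = γ • π p)
    {ι : Type*} [Fintype ι] (b : ι → B) (hinj : ∀ i j (γ : Γ), γ • b i = b j → i = j)
    (hsurj : ∀ p : P, ∃ (i : ι) (γ : Γ), γ • π p = b i)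
    (hfib : ∀ i, Finite {p : P // π p = b i}) (hstab : ∀ i, Finite (stabilizer Γ (b i)))
    [Fintype (orbitRel.Quotient Γ P)] :
    ∑ q : orbitRel.Quotient Γ P, ((Nat.card (stabilizer Γ q.out) : ℕ) : ℚ)⁻¹ =
      ∑ i, (Nat.card {p : P // π p = b i} : ℚ) / (Nat.card (stabilizer Γ (b i)) : ℚ) := by
  classical
  let act : ∀ i, MulAction (stabilizer Γ (b i)) {p : P // π p = b i} := fun i =>
    { smul := fun γ p => ⟨(γ : Γ) • p.1, by rw [hπ, p.2]; exact γ.2⟩
      one_smul := fun p => Subtype.ext (one_smul Γ p.1)
      mul_smul := fun γ δ p => Subtype.ext (mul_smul (γ : Γ) (δ : Γ) p.1) }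
  have := fun i => Fintype.ofFinite (@orbitRel.Quotient _ {p : P // π p = b i} _ (act i))
  calc ∑ q : orbitRel.Quotient Γ P, ((Nat.card (stabilizer Γ q.out) : ℕ) : ℚ)⁻¹
      = ∑ x : Σ i, @orbitRel.Quotient (stabilizer Γ (b i)) {p : P // π p = b i} _ (act i),
          ((Nat.card (stabilizer Γ x.2.out.1) : ℕ) : ℚ)⁻¹ := by
        let e : (Σ i, @orbitRel.Quotient (stabilizer Γ (b i)) {p : P // π p = b i} _ (act i)) →
            orbitRel.Quotient Γ P := fun x => Quotient.mk'' x.2.out.1
        have he : Function.Bijective e := by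
          constructor
          · rintro ⟨i, x⟩ ⟨j, y⟩ h
            obtain ⟨γ, hγ⟩ := Quotient.eq''.mp h
            change γ • y.out.1 = x.out.1 at hγ
            have hb : γ • b j = b i := by rw [← y.out.2, ← hπ, hγ, x.out.2]
            obtain rfl := hinj j i γ hb
            letI := act j
            refine Sigma.ext rfl (heq_of_eq ?_)
            rw [← Quotient.out_eq' x, ← Quotient.out_eq' y]
            exact Quotient.eq''.mpr ⟨⟨γ, hb⟩, Subtype.ext hγ⟩
          · intro q
            induction q using Quotient.inductionOn' with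
            | _ p =>
              obtain ⟨i, γ, hγ⟩ := hsurj p
              letI := act i
              let p' : {p : P // π p = b i} := ⟨γ • p, by rw [hπ, hγ]⟩
              refine ⟨⟨i, Quotient.mk'' p'⟩, Quotient.eq''.mpr ?_⟩
              obtain ⟨δ, hδ⟩ : orbitRel (stabilizer Γ (b i)) _ (Quotient.mk'' p' :
                  orbitRel.Quotient (stabilizer Γ (b i)) _).out p' := Quotient.mk_out' p'
              refine ⟨(δ : Γ) * γ, ?_⟩
              change ((δ : Γ) * γ) • p = _
              rw [mul_smul]
              exact congrArg Subtype.val hδ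
        refine (Fintype.sum_bijective e he _ _ fun x => ?_).symm
        obtain ⟨γ, hγ⟩ : orbitRel Γ P (e x).out x.2.out.1 := Quotient.mk_out' _
        change γ • x.2.out.1 = (e x).out at hγ
        rw [← hγ]
        congr 2
        exact Nat.card_congr (stabilizerEquivStabilizer rfl).toEquiv
    _ = _ := by
        rw [Fintype.sum_sigma]
        refine Finset.sum_congr rfl fun i _ => ?_
        letI := act i
        have h := mass_finite (Γ := stabilizer Γ (b i)) (P := {p : P // π p = b i})
        rw [← h]
        refine Finset.sum_congr rfl fun q _ => ?_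
        congr 2
        refine Nat.card_congr
          { toFun := fun γ => ⟨⟨γ.1, ?_⟩, Subtype.ext γ.2⟩
            invFun := fun γ => ⟨γ.1.1, congrArg Subtype.val γ.2⟩
            left_inv := fun γ => rfl
            right_inv := fun γ => rfl }
        show γ.1 • b i = b i
        calc γ.1 • b i = γ.1 • π q.out.1 := congrArg (γ.1 • ·) q.out.2.symm
          _ = π (γ.1 • q.out.1) := (hπ _ _).symm
          _ = π q.out.1 := congrArg π γ.2
          _ = b i := q.out.2

end Groth.Agent.StkDesc10
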