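import Groth.Agent.StkDesc10.Geom
import Groth.Agent.StkDesc10.Mass
import Groth.Prelude.Def_StkCnt

/-!
# Points of a quotient stack over a finite field as an action groupoid of pairs
-/

set_option autoImplicit false
set_option backward.isDefEq.respectTransparency false
set_option backward.isDefEq.respectTransparency.types false
set_option linter.unusedSectionVars false

universe u

open CategoryTheory CategoryTheory.Limits MonoidalCategory CartesianMonoidalCategory MonObj GrpObj AlgebraicGeometry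

namespace Groth.Agent.StkDesc10

open Groth.Agent.GrpSchLib Groth.Agent.QuotLib AlgSt

variable {k : Type u} [Field k] {K : Type u} [Field K] [Algebra k K] [Fintype K]
variable (Ω : Type u) [Field Ω] [Algebra k Ω] [Algebra K Ω] [IsScalarTower k K Ω] [IsAlgClosure K Ω]

section Twisted

variable (G : Over (Spec (CommRingCat.of k))) [GrpObj G]

/-- The points of the group with the action by twisted conjugation. -/
def TwConj (_K : Type u) [Field _K] [Algebra _K Ω] : Type u := SGA7.pt (K := k) Ω ⟶ G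

variable {Ω G}

/-- A point viewed with twisted conjugation. -/
def TwConj.mk (g : SGA7.pt (K := k) Ω ⟶ G) : TwConj Ω G K := g

/-- The point underlying an element. -/
def TwConj.pt (g : TwConj Ω G K) : SGA7.pt (K := k) Ω ⟶ G := g

noncomputable instance : MulAction (SGA7.pt (K := k) Ω ⟶ G) (TwConj Ω G K) where
  smul h g := TwConj.mk (h * g.pt * (autL k (frob K Ω) ≫ h)⁻¹)
  one_smul g := by
    show TwConj.mk (1 * g.pt * (autL k (frob K Ω) ≫ (1 : SGA7.pt (K := k) Ω ⟶ G))⁻¹) = g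
    rw [MonObj.comp_one, _root_.one_mul, inv_one, _root_.mul_one]
    rfl
  mul_smul h h' g := by
    show TwConj.mk (h * h' * g.pt * (autL k (frob K Ω) ≫ (h * h'))⁻¹) =
      TwConj.mk (h * (h' * g.pt * (autL k (frob K Ω) ≫ h')⁻¹) * (autL k (frob K Ω) ≫ h)⁻¹)
    rw [MonObj.comp_mul, _root_.mul_inv_rev]
    simp only [_root_.mul_assoc]

theorem TwConj.smul_def (h : SGA7.pt (K := k) Ω ⟶ G) (g : TwConj Ω G K) :
    (h • g).pt = h * g.pt * (autL k (frob K Ω) ≫ h)⁻¹ := rfl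

theorem TwConj.smul_eq_iff (h : SGA7.pt (K := k) Ω ⟶ G) (g g' : TwConj Ω G K) :
    h • g = g' ↔ h * g.pt = g'.pt * autL k (frob K Ω) ≫ h := by
  show h * g.pt * _ = g'.pt ↔ _
  exact mul_inv_eq_iff_eq_mul

end Twisted

variable {G X : Over (Spec (CommRingCat.of k))} [GrpObj G] (aX : AlgGrp.Action G X)

variable (K) in
/-- The pairs `(g, x)` with `g · F x = x`. -/
def TwPair : Type u :=
  {p : TwConj Ω G K × (SGA7.pt (K := k) Ω ⟶ X) // lift p.1.pt (autL k (frob K Ω) ≫ p.2) ≫ aX.act = p.2}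

variable {Ω}

noncomputable instance : MulAction (SGA7.pt (K := k) Ω ⟶ G) (TwPair K Ω aX) where
  smul h p := ⟨(h • p.1.1, lift h p.1.2 ≫ aX.act), by
    show lift (h • p.1.1).pt (autL k (frob K Ω) ≫ lift h p.1.2 ≫ aX.act) ≫ aX.act = lift h p.1.2 ≫ aX.act
    rw [TwConj.smul_def, ← Category.assoc (autL k _), comp_lift, act_mul, inv_mul_cancel_right, ← act_mul, p.2]⟩
  one_smul p := Subtype.ext (Prod.ext (one_smul _ p.1.1) (act_one aX p.1.2))
  mul_smul h h' p := Subtype.ext (Prod.ext (mul_smul h h' p.1.1) (act_mul aX h h' p.1.2).symm)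

/-- The cocycle component. -/
def TwPair.fst (p : TwPair K Ω aX) : TwConj Ω G K := p.1.1

theorem TwPair.fst_smul (h : SGA7.pt (K := k) Ω ⟶ G) (p : TwPair K Ω aX) :
    TwPair.fst aX (h • p) = h • TwPair.fst aX p := rfl

variable {aX}
variable [LocallyOfFiniteType (SGA7.pt (K := k) K).hom] [LocallyOfFiniteType G.hom] [QuasiCompact G.hom]

local notation "fr" => autL k (frob K Ω)

/-- A pair attached to an object and a point. -/
theorem pair_mem (A : (QuotObj.forget Scheme.etalePrecoverage G aX).Fiber (SGA7.pt (K := k) K))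
    (t : SGA7.pt (K := k) Ω ⟶ A.1.P) (g : SGA7.pt (K := k) Ω ⟶ G)
    (hg : lift g (fr ≫ t) ≫ A.1.act.act = t) : lift g (fr ≫ t ≫ A.1.φ) ≫ aX.act = t ≫ A.1.φ := by
  conv_rhs => rw [← hg, Category.assoc, A.1.eqv, lift_whiskerLeft_assoc, Category.assoc]

theorem coeff_change (A : (QuotObj.forget Scheme.etalePrecoverage G aX).Fiber (SGA7.pt (K := k) K))
    (t t' : SGA7.pt (K := k) Ω ⟶ A.1.P) (g g' h : SGA7.pt (K := k) Ω ⟶ G)
    (hg : lift g (fr ≫ t) ≫ A.1.act.act = t) (hg' : lift g' (fr ≫ t') ≫ A.1.act.act = t')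
    (hh : lift h t ≫ A.1.act.act = t') : h * g = g' * fr ≫ h := by
  refine act_cancel A (b := fr ≫ t) ?_
  rw [← act_mul, hg, hh, ← act_mul]
  conv_lhs => rw [← hg']
  rw [← hh, ← Category.assoc fr, comp_lift]

/-- Isomorphic objects have pairs in one orbit. -/
theorem orbit_of_iso {A B : (QuotObj.forget Scheme.etalePrecoverage G aX).Fiber (SGA7.pt (K := k) K)} (e : A ⟶ B)
    (t : SGA7.pt (K := k) Ω ⟶ A.1.P) (u : SGA7.pt (K := k) Ω ⟶ B.1.P)
    (ht : t ≫ str A = cover k K Ω) (hu : u ≫ str B = cover k K Ω)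
    (p q : TwPair K Ω aX) (hp : lift p.1.1.pt (fr ≫ t) ≫ A.1.act.act = t) (hpx : t ≫ A.1.φ = p.1.2)
    (hq : lift q.1.1.pt (fr ≫ u) ≫ B.1.act.act = u) (hqx : u ≫ B.1.φ = q.1.2) :
    ∃ h : SGA7.pt (K := k) Ω ⟶ G, lift h u ≫ B.1.act.act = t ≫ e.1.top ∧ h • q = p := by
  obtain ⟨h, hh⟩ := exists_lift_act B (t ≫ e.1.top) u (by rw [Category.assoc, hom_fiber_str, ht, hu])
  have h1 : lift p.1.1.pt (fr ≫ t ≫ e.1.top) ≫ B.1.act.act = t ≫ e.1.top := by
    conv_rhs => rw [← hp, Category.assoc, e.1.eqv, lift_whiskerLeft_assoc, Category.assoc]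
  refine ⟨h, hh, Subtype.ext (Prod.ext ((TwConj.smul_eq_iff h _ _).mpr (coeff_change B u _ _ _ h hq h1 hh)) ?_)⟩
  show lift h q.1.2 ≫ aX.act = p.1.2
  rw [← hqx, ← hpx, ← e.1.wφ, ← Category.assoc t, ← hh, Category.assoc, B.1.eqv, lift_whiskerLeft_assoc]

section Realise

variable [IsAffineHom G.hom] [LocallyOfFiniteType X.hom]

/-- The object of a pair. -/
noncomputable def obj (p : TwPair K Ω aX) :
    (QuotObj.forget Scheme.etalePrecoverage G aX).Fiber (SGA7.pt (K := k) K) :=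
  (exists_object_geom p.1.1.pt p.1.2 p.2).choose

/-- The point of the object of a pair. -/
noncomputable def objPt (p : TwPair K Ω aX) : SGA7.pt (K := k) Ω ⟶ (obj p).1.P :=
  (exists_object_geom p.1.1.pt p.1.2 p.2).choose_spec.choose

theorem objPt_str (p : TwPair K Ω aX) : objPt p ≫ str (obj p) = cover k K Ω :=
  (exists_object_geom p.1.1.pt p.1.2 p.2).choose_spec.choose_spec.1

theorem objPt_coeff (p : TwPair K Ω aX) : lift p.1.1.pt (fr ≫ objPt p) ≫ (obj p).1.act.act = objPt p :=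
  (exists_object_geom p.1.1.pt p.1.2 p.2).choose_spec.choose_spec.2.1

theorem objPt_φ (p : TwPair K Ω aX) : objPt p ≫ (obj p).1.φ = p.1.2 :=
  (exists_object_geom p.1.1.pt p.1.2 p.2).choose_spec.choose_spec.2.2

theorem exists_hom_of_smul {p q : TwPair K Ω aX} {h : SGA7.pt (K := k) Ω ⟶ G} (hh : h • q = p) :
    ∃ e : obj p ≅ obj q, objPt p ≫ e.hom.1.top = lift h (objPt q) ≫ (obj q).1.act.act := by
  have h1 : h * q.1.1.pt = p.1.1.pt * fr ≫ h :=
    (TwConj.smul_eq_iff h q.1.1 p.1.1).mp (congrArg (fun r : TwPair K Ω aX => r.1.1) hh)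
  have h2 : lift h q.1.2 ≫ aX.act = p.1.2 := congrArg (fun r : TwPair K Ω aX => r.1.2) hh
  refine exists_iso_geom (obj p) (obj q) (objPt p) _ (objPt_str p)
    (by rw [Category.assoc, act_str, lift_snd_assoc, objPt_str]) p.1.1.pt (objPt_coeff p) ?_ ?_
  · rw [← Category.assoc fr, comp_lift, act_mul, ← h1, ← act_mul, objPt_coeff]
  · rw [objPt_φ, Category.assoc, (obj q).1.eqv, lift_whiskerLeft_assoc, objPt_φ, h2]

theorem exists_iso_obj (A : (QuotObj.forget Scheme.etalePrecoverage G aX).Fiber (SGA7.pt (K := k) K)) :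
    ∃ p : TwPair K Ω aX, Nonempty (obj p ≅ A) := by
  obtain ⟨t, ht⟩ := exists_triv (Ω := Ω) A
  obtain ⟨g, hg⟩ := exists_frob_coeff A t ht
  let p : TwPair K Ω aX := ⟨(TwConj.mk g, t ≫ A.1.φ), pair_mem A t g hg⟩
  exact ⟨p, ⟨(exists_iso_geom (obj p) A (objPt p) t (objPt_str p) ht g (objPt_coeff p) hg (objPt_φ p)).choose⟩⟩

theorem iso_obj_iff (p q : TwPair K Ω aX) :
    Nonempty (obj p ≅ obj q) ↔ MulAction.orbitRel (SGA7.pt (K := k) Ω ⟶ G) _ p q := by
  refine ⟨fun ⟨e⟩ => ?_, fun ⟨h, hh⟩ => ⟨(exists_hom_of_smul (p := p) (q := q) hh).choose⟩⟩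
  obtain ⟨h, -, hh⟩ := orbit_of_iso e.hom _ _ (objPt_str p) (objPt_str q) p q (objPt_coeff p) (objPt_φ p)
    (objPt_coeff q) (objPt_φ q)
  exact ⟨h, hh⟩

theorem card_aut_obj (p : TwPair K Ω aX) :
    Nat.card (Aut (obj p)) = Nat.card (MulAction.stabilizer (SGA7.pt (K := k) Ω ⟶ G) p) := by
  let F : Aut (obj p) → MulAction.stabilizer (SGA7.pt (K := k) Ω ⟶ G) p := fun e =>
    ⟨(orbit_of_iso e.hom _ _ (objPt_str p) (objPt_str p) p p (objPt_coeff p) (objPt_φ p) (objPt_coeff p)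
      (objPt_φ p)).choose,
    (orbit_of_iso e.hom _ _ (objPt_str p) (objPt_str p) p p (objPt_coeff p) (objPt_φ p) (objPt_coeff p)
      (objPt_φ p)).choose_spec.2⟩
  have hF : ∀ e, lift (F e).1 (objPt p) ≫ (obj p).1.act.act = objPt p ≫ e.hom.1.top := fun e =>
    (orbit_of_iso e.hom _ _ (objPt_str p) (objPt_str p) p p (objPt_coeff p) (objPt_φ p) (objPt_coeff p)
      (objPt_φ p)).choose_spec.1
  refine Nat.card_congr (Equiv.ofBijective F ⟨fun e e' he => Iso.ext ?_, fun h => ?_⟩)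
  · exact hom_ext_geom _ _ _ (objPt_str p) (by rw [← hF, ← hF, he])
  · obtain ⟨e, he⟩ := exists_hom_of_smul (p := p) (q := p) h.2
    exact ⟨e, Subtype.ext (act_cancel _ ((hF e).trans he))⟩

/-- The point count is the mass of the action on pairs. -/
theorem count_eq_mass (h : StkCnt.IsEssFinite ((QuotObj.forget Scheme.etalePrecoverage G aX).Fiber (SGA7.pt (K := k) K)))
    [Fintype (MulAction.orbitRel.Quotient (SGA7.pt (K := k) Ω ⟶ G) (TwPair K Ω aX))] :
    StkCnt.count _ h = ∑ q : MulAction.orbitRel.Quotient (SGA7.pt (K := k) Ω ⟶ G) (TwPair K Ω aX),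
      ((Nat.card (MulAction.stabilizer (SGA7.pt (K := k) Ω ⟶ G) q.out) : ℕ) : ℚ)⁻¹ := by
  have := @Fintype.ofFinite _ h.finite_isoCl
  rw [StkCnt.count_eq_sum h]
  refine (Fintype.sum_bijective (fun q => StkCnt.IsoCl.mk (obj q.out)) ⟨fun q q' hq => ?_, fun c => ?_⟩ _ _
    fun q => ?_).symm
  · rw [← Quotient.out_eq' q, ← Quotient.out_eq' q']
    exact Quotient.eq''.mpr ((iso_obj_iff _ _).mp (Quotient.exact hq))
  · induction c using Quotient.inductionOn with
    | _ A =>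
      obtain ⟨p, ⟨e⟩⟩ := exists_iso_obj (Ω := Ω) A
      refine ⟨Quotient.mk'' p, Quotient.sound ?_⟩
      obtain ⟨e'⟩ := (iso_obj_iff (Quotient.mk'' p : MulAction.orbitRel.Quotient
        (SGA7.pt (K := k) Ω ⟶ G) (TwPair K Ω aX)).out p).mpr (Quotient.mk_out' p)
      exact ⟨e'.trans e⟩
  · simp only [StkCnt.autCard_mk, card_aut_obj]

theorem finite_orbits (h : StkCnt.IsEssFinite ((QuotObj.forget Scheme.etalePrecoverage G aX).Fiber (SGA7.pt (K := k) K))) :
    Finite (MulAction.orbitRel.Quotient (SGA7.pt (K := k) Ω ⟶ G) (TwPair K Ω aX)) := by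
  have := h.finite_isoCl
  refine Finite.of_injective (fun q => StkCnt.IsoCl.mk (obj q.out)) fun q q' hq => ?_
  rw [← Quotient.out_eq' q, ← Quotient.out_eq' q']
  exact Quotient.eq''.mpr ((iso_obj_iff _ _).mp (Quotient.exact hq))

end Realise

end Groth.Agent.StkDesc10
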