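import Groth.Agent.StkDesc10.Frob
import Groth.Prelude.Def_GalTw
import Mathlib.FieldTheory.KrullTopology
import Mathlib.FieldTheory.Normal.Basic

/-!
# Locally constant cocycles over finite fields are determined by their value at Frobenius
-/

set_option autoImplicit false
set_option backward.isDefEq.respectTransparency false
set_option backward.isDefEq.respectTransparency.types false
set_option linter.unusedSectionVars false

universe u

open CategoryTheory CategoryTheory.Limits MonoidalCategory CartesianMonoidalCategory MonObj GrpObj AlgebraicGeometry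

namespace Groth.Agent.StkDesc10

variable {k : Type u} [Field k] [Fintype k] {Ω : Type u} [Field Ω] [Algebra k Ω] [IsAlgClosure k Ω]

instance isAlgebraic_closure : Algebra.IsAlgebraic k Ω := IsAlgClosure.isAlgebraic

/-- Every element restricts to a power of Frobenius on each finite level. -/
theorem exists_pow_restrict (L : IntermediateField k Ω) [FiniteDimensional k L] [Normal k L]
    (σ : Ω ≃ₐ[k] Ω) : ∃ i : ℕ, ∀ x : L, (frob k Ω ^ i) (x : Ω) = σ x := by
  have : Finite L := Module.finite_of_finite k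
  obtain ⟨i, hi⟩ := (FiniteField.bijective_frobeniusAlgEquivOfAlgebraic_pow k L).2
    (AlgEquiv.restrictNormalHom L σ)
  refine ⟨i.1, fun x => ?_⟩
  have h : ((FiniteField.frobeniusAlgEquivOfAlgebraic k L ^ i.1) x : L) = AlgEquiv.restrictNormalHom L σ x :=
    congr($hi x)
  rw [← AlgEquiv.restrictNormalHom_apply L σ x, ← h, frob_pow_apply, frob_pow_apply]
  rfl

/-- Powers of Frobenius are dense: locally constant functions agreeing there are equal. -/
theorem eq_of_eq_on_pow {α : Type*} {f g : (Ω ≃ₐ[k] Ω) → α} (hf : IsLocallyConstant f)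
    (hg : IsLocallyConstant g) (h : ∀ i : ℕ, f (frob k Ω ^ i) = g (frob k Ω ^ i)) : f = g := by
  funext σ
  have hU : IsOpen ({τ | f (σ * τ) = f σ} ∩ {τ | g (σ * τ) = g σ}) :=
    ((hf.comp_continuous (continuous_const_mul σ)).isOpen_fiber (f σ)).inter
      ((hg.comp_continuous (continuous_const_mul σ)).isOpen_fiber (g σ))
  have h1 : (1 : Ω ≃ₐ[k] Ω) ∈ {τ | f (σ * τ) = f σ} ∩ {τ | g (σ * τ) = g σ} := by simp
  obtain ⟨E, hE, hsub⟩ := (krullTopology_mem_nhds_one_iff k Ω _).mp (hU.mem_nhds h1)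
  let n := Module.finrank k E
  have hn : 0 < n := Module.finrank_pos
  have := finite_lvl (K := k) (Ω := Ω) hn
  have : FiniteDimensional k (lvl k Ω n) := Module.Finite.of_finite
  obtain ⟨i, hi⟩ := exists_pow_restrict (lvl k Ω n) σ
  have hmem : σ⁻¹ * frob k Ω ^ i ∈ E.fixingSubgroup := by
    rw [IntermediateField.mem_fixingSubgroup_iff]
    intro x hx
    show σ⁻¹ ((frob k Ω ^ i) x) = x
    rw [show (frob k Ω ^ i) x = σ x from hi ⟨x, le_lvl (dvd_refl n) hx⟩]
    exact σ.symm_apply_apply x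
  have := hsub hmem
  simp only [Set.mem_inter_iff, Set.mem_ofPred_eq, mul_inv_cancel_left] at this
  rw [← this.1, ← this.2, h i]

variable {G : Over (Spec (CommRingCat.of k))} [GrpObj G]

/-- Galois action on points as precomposition. -/
theorem smul_eq_autL (σ : Ω ≃ₐ[k] Ω) (x : SGA7.Pts Ω G) : σ • x = autL k σ ≫ x := rfl

theorem lc_cocycle_pow (a : GpH1.OneCocycle (Ω ≃ₐ[k] Ω) (SGA7.Pts Ω G)) (i : ℕ) :
    a (frob k Ω ^ i) = nrm (K := k) (a (frob k Ω)) i := by
  induction i with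
  | zero => rw [pow_zero, GalTw.oneCocycle_one]; rfl
  | succ i ih => rw [pow_succ', a.2, nrm, ← smul_eq_autL, ih]

/-- Two locally constant cocycles with the same value at Frobenius are equal. -/
theorem lc_cocycle_ext (a b : GpH1.OneCocycleLC (Ω ≃ₐ[k] Ω) (SGA7.Pts Ω G))
    (h : a.1 (frob k Ω) = b.1 (frob k Ω)) : ∀ σ, a.1 σ = b.1 σ :=
  congrFun (eq_of_eq_on_pow a.2 b.2 fun i => by rw [lc_cocycle_pow, lc_cocycle_pow, h])

theorem isLocallyConstant_smul (x : SGA7.Pts Ω G) [LocallyOfFiniteType G.hom] :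
    IsLocallyConstant fun σ : Ω ≃ₐ[k] Ω => σ • x := by
  obtain ⟨E, hE, h⟩ := exists_level (K := k) x
  obtain ⟨y, hy⟩ := h E le_rfl
  refine (IsLocallyConstant.iff_exists_open _).2 fun σ => ?_
  refine ⟨(fun τ => σ⁻¹ * τ) ⁻¹' E.fixingSubgroup, E.fixingSubgroup_isOpen.preimage (continuous_const_mul _),
    by simp, fun τ hτ => ?_⟩
  have hfix : ∀ c : E, τ (c : Ω) = σ (c : Ω) := fun c => by
    have h1 : (σ⁻¹ * τ) (c : Ω) = c := (IntermediateField.mem_fixingSubgroup_iff _ _).mp hτ c c.2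
    exact (σ.apply_symm_apply (τ c)).symm.trans (congrArg σ h1)
  show autL k τ ≫ x = autL k σ ≫ x
  have hc : autL k τ ≫ cover k E Ω = autL k σ ≫ cover k E Ω := Over.OverMorphism.ext (by
    show Spec.map _ ≫ Spec.map _ = Spec.map _ ≫ Spec.map _
    rw [← Spec.map_comp, ← Spec.map_comp]
    congr 1
    ext c
    exact hfix c)
  rw [← hy, reassoc_of% hc]

/-- Every point is the value at Frobenius of a locally constant cocycle. -/
theorem exists_lc_cocycle [LocallyOfFiniteType G.hom] [QuasiCompact G.hom] (g : SGA7.Pts Ω G) :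
    ∃ a : GpH1.OneCocycleLC (Ω ≃ₐ[k] Ω) (SGA7.Pts Ω G), a.1 (frob k Ω) = g := by
  obtain ⟨L, _, _, _, g₀, z, -, hg₀, hz, hzg⟩ := exists_good_level (K := k) g ⊥
  let r : (Ω ≃ₐ[k] Ω) →* (L ≃ₐ[k] L) := AlgEquiv.restrictNormalHom L
  have hr : ∀ σ, autL k σ ≫ cover k L Ω = cover k L Ω ≫ autL k (r σ) := fun σ => Over.OverMorphism.ext (by
    show Spec.map _ ≫ Spec.map _ = Spec.map _ ≫ Spec.map _
    rw [← Spec.map_comp, ← Spec.map_comp]
    congr 1
    ext c
    exact (AlgEquiv.restrictNormalHom_apply L σ c).symm)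
  refine ⟨⟨⟨fun σ => cover k L Ω ≫ z (r σ), fun σ τ => ?_⟩, ?_⟩, ?_⟩
  · show cover k L Ω ≫ z (r (σ * τ)) = (cover k L Ω ≫ z (r σ)) * autL k σ ≫ cover k L Ω ≫ z (r τ)
    rw [map_mul, hz, MonObj.comp_mul, reassoc_of% (hr σ)]
  · refine IsLocallyConstant.comp ?_ (fun t => cover k L Ω ≫ z t)
    refine (IsLocallyConstant.iff_exists_open _).2 fun σ => ?_
    refine ⟨(fun τ => σ⁻¹ * τ) ⁻¹' L.fixingSubgroup, L.fixingSubgroup_isOpen.preimage (continuous_const_mul _),
      by simp, fun τ hτ => ?_⟩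
    have h1 : r (σ⁻¹ * τ) = 1 := by
      ext c
      rw [show ((r (σ⁻¹ * τ)) c : Ω) = (σ⁻¹ * τ) (c : Ω) from AlgEquiv.restrictNormalHom_apply L _ c]
      exact (IntermediateField.mem_fixingSubgroup_iff _ _).mp hτ c c.2
    rw [map_mul, map_inv, inv_mul_eq_one] at h1
    exact h1.symm
  · show cover k L Ω ≫ z (r (frob k Ω)) = g
    have : r (frob k Ω) = frob k L := by
      ext c
      exact (AlgEquiv.restrictNormalHom_apply L _ c).trans rfl
    rw [this, hzg, hg₀]

end Groth.Agent.StkDesc10
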