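import Groth.Agent.StkDesc10.Frob
import Mathlib.AlgebraicGeometry.ResidueField

/-!
# Twisted Frobenius has finitely many fixed points
-/

set_option autoImplicit false
set_option backward.isDefEq.respectTransparency false
set_option backward.isDefEq.respectTransparency.types false
set_option linter.unusedSectionVars false

universe u

open CategoryTheory CategoryTheory.Limits MonoidalCategory CartesianMonoidalCategory MonObj GrpObj AlgebraicGeometry

namespace Groth.Agent.StkDesc10

variable {k : Type u} [Field k] {K : Type u} [Field K] [Algebra k K] [Fintype K]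
variable {Ω : Type u} [Field Ω] [Algebra k Ω] [Algebra K Ω] [IsScalarTower k K Ω] [IsAlgClosure K Ω]
variable {G X : Over (Spec (CommRingCat.of k))} [GrpObj G]

local notation "fr" => autL k (frob K Ω)

/-- A point fixed by a power of Frobenius lives at that level. -/
theorem exists_lvl_of_fixed {d : ℕ} (x : SGA7.pt (K := k) Ω ⟶ X)
    (hx : autL k (frob K Ω ^ d) ≫ x = x) : ∃ y : SGA7.pt (K := k) (lvl K Ω d) ⟶ X, cover k (lvl K Ω d) Ω ≫ y = x := by
  obtain ⟨⟨w, φ⟩, hwφ⟩ := (Scheme.SpecToEquivOfField Ω X.left).symm.surjective x.left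
  have hx' : x.left = Spec.map φ ≫ X.left.fromSpecResidueField w := hwφ.symm
  have h1 : φ ≫ CommRingCat.ofHom ((frob K Ω ^ d : Ω ≃ₐ[K] Ω) : Ω →+* Ω) = φ := by
    apply Spec.map_injective
    rw [← cancel_mono (X.left.fromSpecResidueField w), Spec.map_comp, Category.assoc, ← hx']
    exact congrArg CommaMorphism.left hx
  have h2 : ∀ c, φ c ∈ (lvl K Ω d).toSubring := fun c =>
    mem_lvl.mpr ((frob_pow_apply K Ω d (φ c)).symm.trans (congr($(h1).hom c)))
  let ψ : X.left.residueField w →+* lvl K Ω d := φ.hom.codRestrict (lvl K Ω d).toSubring h2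
  have hψ : CommRingCat.ofHom ψ ≫ CommRingCat.ofHom (algebraMap (lvl K Ω d) Ω) = φ := by
    ext c
    rfl
  let s := Spec.map (CommRingCat.ofHom (algebraMap (lvl K Ω d) Ω))
  have hsψ : s ≫ Spec.map (CommRingCat.ofHom ψ) = Spec.map φ := by rw [← Spec.map_comp, hψ]
  have := surjective_cover (k := k) (K := lvl K Ω d) (L := Ω)
  have := flat_cover (k := k) (K := lvl K Ω d) (L := Ω)
  have := quasiCompact_cover (k := k) (K := lvl K Ω d) (L := Ω)
  refine ⟨Over.homMk (Spec.map (CommRingCat.ofHom ψ) ≫ X.left.fromSpecResidueField w) ?_,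
    Over.OverMorphism.ext ?_⟩
  · rw [← cancel_epi (cover k (lvl K Ω d) Ω).left]
    show s ≫ (Spec.map _ ≫ _) ≫ X.hom = (cover k (lvl K Ω d) Ω).left ≫ (SGA7.pt (K := k) (lvl K Ω d)).hom
    rw [← Category.assoc s, ← Category.assoc s, hsψ, ← hx', Over.w x, Over.w (cover k (lvl K Ω d) Ω)]
  · show s ≫ Spec.map _ ≫ _ = x.left
    rw [← Category.assoc, hsψ, hx']

variable [LocallyOfFiniteType G.hom] [QuasiCompact G.hom]

/-- Every value at Frobenius has trivial norm after finitely many steps. -/
theorem exists_nrm_eq_one (g : SGA7.pt (K := k) Ω ⟶ G) : ∃ d : ℕ, 0 < d ∧ nrm (K := K) g d = 1 := by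
  obtain ⟨L, _, _, _, g₀, z, -, hg₀, hz, hzg⟩ := exists_good_level (K := K) g ⊥
  have hpow : ∀ i, z (frob K L ^ i) = nrm (K := K) g₀ i := fun i => by
    induction i with
    | zero => rw [pow_zero, hz.map_one]; rfl
    | succ i ih => rw [pow_succ', hz, nrm, hzg, ih]
  refine ⟨Module.finrank K L, Module.finrank_pos, ?_⟩
  rw [← hg₀, ← cover_nrm, ← hpow, ← FiniteField.orderOf_frobeniusAlgEquivOfAlgebraic K L, pow_orderOf_eq_one,
    hz.map_one, MonObj.comp_one]

variable [LocallyOfFiniteType X.hom] [QuasiCompact X.hom]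

/-- Twisted Frobenius has finitely many fixed points on a scheme of finite type. -/
theorem finite_twisted_fixed (aX : AlgGrp.Action G X) (g : SGA7.pt (K := k) Ω ⟶ G) :
    Finite {x : SGA7.pt (K := k) Ω ⟶ X // lift g (fr ≫ x) ≫ aX.act = x} := by
  obtain ⟨d, hd, hnd⟩ := exists_nrm_eq_one (K := K) g
  have := finite_lvl (K := K) (Ω := Ω) hd
  have := finite_points (W := X) (lvl K Ω d)
  have h : ∀ x : SGA7.pt (K := k) Ω ⟶ X, lift g (fr ≫ x) ≫ aX.act = x →
      ∀ i, lift (nrm (K := K) g i) (autL k (frob K Ω ^ i) ≫ x) ≫ aX.act = x := fun x hx i => by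
    induction i with
    | zero => rw [nrm, pow_zero, autL_one, Category.id_comp, GrpSchLib.act_one]
    | succ i ih =>
      rw [nrm, pow_succ', autL_mul, Category.assoc, ← GrpSchLib.act_mul]
      conv_rhs => rw [← hx]; arg 1; arg 2; rw [← ih]
      simp only [comp_lift_assoc]
  choose y hy using fun x : {x : SGA7.pt (K := k) Ω ⟶ X // lift g (fr ≫ x) ≫ aX.act = x} =>
    exists_lvl_of_fixed x.1 (by
      have := h x.1 x.2 d
      rwa [hnd, GrpSchLib.act_one] at this)
  exact Finite.of_injective y fun a b e => Subtype.ext (by rw [← hy a, ← hy b, e])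

/-- The twisted centraliser of a value at Frobenius is finite. -/
theorem finite_twisted_centraliser (g : SGA7.pt (K := k) Ω ⟶ G) :
    Finite {u : SGA7.pt (K := k) Ω ⟶ G // u * g = g * fr ≫ u} := by
  obtain ⟨d, hd, hnd⟩ := exists_nrm_eq_one (K := K) g
  have := finite_lvl (K := K) (Ω := Ω) hd
  have := finite_points (W := G) (lvl K Ω d)
  have h : ∀ u : SGA7.pt (K := k) Ω ⟶ G, u * g = g * fr ≫ u →
      ∀ i, u * nrm (K := K) g i = nrm (K := K) g i * autL k (frob K Ω ^ i) ≫ u := fun u hu i => by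
    induction i with
    | zero => rw [nrm, pow_zero, autL_one, Category.id_comp, _root_.mul_one, _root_.one_mul]
    | succ i ih =>
      rw [nrm, pow_succ', autL_mul, Category.assoc, ← _root_.mul_assoc, hu, _root_.mul_assoc, _root_.mul_assoc,
        ← MonObj.comp_mul, ih, MonObj.comp_mul]
  choose y hy using fun u : {u : SGA7.pt (K := k) Ω ⟶ G // u * g = g * fr ≫ u} =>
    exists_lvl_of_fixed u.1 (by
      have := h u.1 u.2 d
      rw [hnd, _root_.mul_one, _root_.one_mul] at this
      exact this.symm)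
  exact Finite.of_injective y fun a b e => Subtype.ext (by rw [← hy a, ← hy b, e])

end Groth.Agent.StkDesc10
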