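import Groth.Agent.StkDesc10.Pairs
import Groth.Agent.StkDesc10.Fixed

/-!
# The point count as a sum over twisted conjugacy classes
-/

set_option autoImplicit false
set_option backward.isDefEq.respectTransparency false
set_option backward.isDefEq.respectTransparency.types false
set_option linter.unusedSectionVars false

universe u v

open CategoryTheory CategoryTheory.Limits MonoidalCategory CartesianMonoidalCategory MonObj GrpObj AlgebraicGeometry

namespace Groth.Agent.StkDesc10

variable {k : Type u} [Field k] {K : Type u} [Field K] [Algebra k K] [Fintype K]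
variable {Ω : Type u} [Field Ω] [Algebra k Ω] [Algebra K Ω] [IsScalarTower k K Ω] [IsAlgClosure K Ω]
variable {G X : Over (Spec (CommRingCat.of k))} [GrpObj G] {aX : AlgGrp.Action G X}
variable [LocallyOfFiniteType (SGA7.pt (K := k) K).hom] [LocallyOfFiniteType G.hom] [IsAffineHom G.hom]
  [LocallyOfFiniteType X.hom] [QuasiCompact X.hom]

local notation "fr" => autL k (frob K Ω)

/-- The point count of a quotient stack as a sum over representatives of twisted conjugacy classes. -/
theorem count_eq_sum_classes {J : Type v} [Fintype J] (b : J → (SGA7.pt (K := k) Ω ⟶ G))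
    (hinj : ∀ (i j : J) (h : SGA7.pt (K := k) Ω ⟶ G), h * b i = b j * fr ≫ h → i = j)
    (hsurj : ∀ g : SGA7.pt (K := k) Ω ⟶ G, ∃ (i : J) (h : SGA7.pt (K := k) Ω ⟶ G), h * g = b i * fr ≫ h)
    (h : StkCnt.IsEssFinite
      ((AlgSt.QuotObj.forget Scheme.etalePrecoverage G aX).Fiber (SGA7.pt (K := k) K))) :
    StkCnt.count _ h =
      ∑ i, (Nat.card {x : SGA7.pt (K := k) Ω ⟶ X // lift (b i) (fr ≫ x) ≫ aX.act = x} : ℚ) /
        (Nat.card {u : SGA7.pt (K := k) Ω ⟶ G // u * b i = b i * fr ≫ u} : ℚ) := by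
  have := finite_orbits (Ω := Ω) h
  have := Fintype.ofFinite (MulAction.orbitRel.Quotient (SGA7.pt (K := k) Ω ⟶ G) (TwPair K Ω aX))
  let b' : J → TwConj Ω G K := fun i => TwConj.mk (b i)
  let eF : ∀ i, {p : TwPair K Ω aX // TwPair.fst aX p = b' i} ≃
      {x : SGA7.pt (K := k) Ω ⟶ X // lift (b i) (fr ≫ x) ≫ aX.act = x} := fun i =>
    { toFun := fun p => ⟨p.1.1.2, by
        have e : p.1.1.1.pt = b i := congrArg TwConj.pt p.2
        rw [← e]; exact p.1.2⟩
      invFun := fun x => ⟨⟨(b' i, x.1), x.2⟩, rfl⟩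
      left_inv := fun p => Subtype.ext (Subtype.ext (Prod.ext p.2.symm rfl))
      right_inv := fun x => rfl }
  let eS : ∀ i, MulAction.stabilizer (SGA7.pt (K := k) Ω ⟶ G) (b' i) ≃
      {u : SGA7.pt (K := k) Ω ⟶ G // u * b i = b i * fr ≫ u} := fun i =>
    Equiv.subtypeEquivRight fun u => TwConj.smul_eq_iff u (b' i) (b' i)
  have : ∀ i, Finite {p : TwPair K Ω aX // TwPair.fst aX p = b' i} := fun i => by
    have := finite_twisted_fixed (K := K) aX (b i)
    exact Finite.of_equiv _ (eF i).symm
  have : ∀ i, Finite (MulAction.stabilizer (SGA7.pt (K := k) Ω ⟶ G) (b' i)) := fun i => by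
    have := finite_twisted_centraliser (K := K) (b i)
    exact Finite.of_equiv _ (eS i).symm
  rw [count_eq_mass (Ω := Ω) h, mass_fibred (TwPair.fst aX) (TwPair.fst_smul aX) b'
    (fun i j γ hij => hinj i j γ ((TwConj.smul_eq_iff γ _ _).mp hij))
    (fun p => by
      obtain ⟨i, γ, hγ⟩ := hsurj (TwPair.fst aX p).pt
      exact ⟨i, γ, (TwConj.smul_eq_iff γ _ _).mpr hγ⟩) inferInstance inferInstance]
  exact Finset.sum_congr rfl fun i _ => by rw [Nat.card_congr (eF i), Nat.card_congr (eS i)]

end Groth.Agent.StkDesc10
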