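import Groth.Prelude.Def_GalTw2
import Mathlib.AlgebraicGeometry.ResidueField
import Mathlib.FieldTheory.Finite.Basic
import Mathlib.FieldTheory.IsAlgClosed.Basic
import Mathlib.AlgebraicGeometry.Sites.Fpqc

/-!
# Rational points of twists over finite fields
-/

set_option autoImplicit false
set_option backward.isDefEq.respectTransparency false
set_option backward.isDefEq.respectTransparency.types false
set_option linter.unusedSectionVars false

universe u

open CategoryTheory CategoryTheory.Limits MonoidalCategory CartesianMonoidalCategory MonObj GrpObj AlgebraicGeometry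

namespace Groth.Agent.StkDesc10

variable {k : Type u} [Field k] {K : Type u} [Field K] [Algebra k K]
variable {X Y : Over (Spec (CommRingCat.of k))}

theorem secOfPt_fst (x : SGA7.Pts K X) :
    (GalTw.secOfPt K x).left ≫ pullback.fst X.hom (SGA7.pt (K := k) K).hom = x.left := pullback.lift_fst _ _ _

/-- Points are sections of the base change. -/
noncomputable def secEquiv (X : Over (Spec (CommRingCat.of k))) :
    SGA7.Pts K X ≃ (𝟙_ (Over (Spec (CommRingCat.of K))) ⟶ GalTw.bcK K X) where
  toFun := GalTw.secOfPt K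
  invFun s := Over.homMk (s.left ≫ pullback.fst X.hom (SGA7.pt (K := k) K).hom) (by
    show (s.left ≫ pullback.fst _ _) ≫ X.hom = _
    rw [Category.assoc, pullback.condition, ← Category.assoc, show s.left ≫ pullback.snd _ _ = 𝟙 _ from Over.w s]
    exact Category.id_comp _)
  left_inv x := Over.OverMorphism.ext (secOfPt_fst x)
  right_inv s := Over.OverMorphism.ext (by
    apply pullback.hom_ext
    · rw [secOfPt_fst]; rfl
    · exact (pullback.lift_snd _ _ _).trans (Over.w s).symm)

theorem secOfPt_smul (σ : K ≃ₐ[k] K) (x : SGA7.Pts K X) :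
    (GalTw.secOfPt K (σ • x)).left = GalTw.specMap K σ ≫ (GalTw.secOfPt K x).left ≫ GalTw.galMap K σ⁻¹ X := by
  apply pullback.hom_ext
  · rw [secOfPt_fst, Category.assoc, Category.assoc, GalTw.galMap_fst, secOfPt_fst]
    rfl
  · rw [Category.assoc, Category.assoc, GalTw.galMap_snd, GalTw.secOfPt_left, pullback.lift_snd,
      GalTw.secOfPt_left, pullback.lift_snd_assoc]
    exact ((congrArg (GalTw.specMap K σ ≫ ·) (Category.id_comp _)).trans
      (by rw [← GalTw.specMap_mul, mul_inv_cancel, GalTw.specMap_one]; rfl)).symm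

variable {G : Over (Spec (CommRingCat.of k))} [GrpObj G]

theorem secOfPt_actK (a : AlgGrp.Action G X) (g : SGA7.Pts K G) (x : SGA7.Pts K X) :
    GalTw.secOfPt K x ≫ GalTw.actK K a g = GalTw.secOfPt K (lift g x ≫ a.act) := by
  refine Over.OverMorphism.ext ?_
  apply pullback.hom_ext
  · show ((GalTw.secOfPt K x).left ≫ pullback.lift _ _ _) ≫ pullback.fst _ _ = _
    rw [Category.assoc, pullback.lift_fst, secOfPt_fst]
    let p : SGA7.pt (K := k) K ⟶ X ⊗ SGA7.pt (K := k) K := lift x (𝟙 _)
    have hp : (GalTw.secOfPt K x).left = p.left := by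
      apply pullback.hom_ext
      · rw [secOfPt_fst]
        exact congrArg CommaMorphism.left (lift_fst x (𝟙 (SGA7.pt (K := k) K))).symm
      · rw [GalTw.secOfPt_left, pullback.lift_snd]
        exact congrArg CommaMorphism.left (lift_snd x (𝟙 (SGA7.pt (K := k) K))).symm
    rw [hp]
    have h2 : p ≫ lift (snd X (SGA7.pt (K := k) K) ≫ g) (fst X (SGA7.pt (K := k) K)) ≫ a.act = lift g x ≫ a.act := by
      rw [← Category.assoc, comp_lift]
      simp [p]
    exact congrArg CommaMorphism.left h2
  · show ((GalTw.secOfPt K x).left ≫ pullback.lift _ _ _) ≫ pullback.snd _ _ = _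
    rw [Category.assoc, pullback.lift_snd, GalTw.secOfPt_left, GalTw.secOfPt_left, pullback.lift_snd,
      pullback.lift_snd]

/-- The bijection on points induced by an isomorphism of base changes. -/
noncomputable def ptsEquiv (φ : GalTw.bcK K Y ≅ GalTw.bcK K X) : SGA7.Pts K Y ≃ SGA7.Pts K X :=
  (secEquiv Y).trans (((Iso.refl (𝟙_ (Over (Spec (CommRingCat.of K))))).homCongr φ).trans (secEquiv X).symm)

theorem secOfPt_ptsEquiv (φ : GalTw.bcK K Y ≅ GalTw.bcK K X) (y : SGA7.Pts K Y) :
    GalTw.secOfPt K (ptsEquiv φ y) = GalTw.secOfPt K y ≫ φ.hom := by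
  show secEquiv X ((secEquiv X).symm _) = _
  rw [Equiv.apply_symm_apply]
  simp [Iso.homCongr, secEquiv]

theorem secOfPt_comp_cocycle (φ : GalTw.bcK K Y ≅ GalTw.bcK K X) (σ : K ≃ₐ[k] K) (y : SGA7.Pts K Y) :
    GalTw.secOfPt K (σ • ptsEquiv φ y) ≫ (GalTw.cocycle φ σ).hom = GalTw.secOfPt K (ptsEquiv φ (σ • y)) := by
  rw [secOfPt_ptsEquiv]
  refine Over.OverMorphism.ext ?_
  rw [Over.comp_left, Over.comp_left, secOfPt_smul, secOfPt_smul, GalTw.cocycle_apply_hom, Over.comp_left,
    GalTw.twIso_inv, GalTw.twHom_left, secOfPt_ptsEquiv, Over.comp_left]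
  simp only [Category.assoc, GalTw.galMap_mul_assoc, inv_mul_cancel, GalTw.galMap_one, Category.id_comp,
    Over.hom_left_inv_left_assoc]

/-- A twist through an action twists the action of the Galois group on points. -/
theorem ptsEquiv_smul_of_actTwist {a : AlgGrp.Action G X} {z : GpH1.OneCocycle (K ≃ₐ[k] K) (SGA7.Pts K G)}
    (φ : GalTw.bcK K Y ≅ GalTw.bcK K X) (σ : K ≃ₐ[k] K) (h : (GalTw.cocycle φ σ).hom = GalTw.actK K a (z σ))
    (y : SGA7.Pts K Y) : ptsEquiv φ (σ • y) = lift (z σ) (σ • ptsEquiv φ y) ≫ a.act := by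
  apply (secEquiv X).injective
  show GalTw.secOfPt K _ = GalTw.secOfPt K _
  rw [← secOfPt_comp_cocycle, h, secOfPt_actK]

theorem secOfPt_comp {Z : Over (Spec (CommRingCat.of k))} (x : SGA7.Pts K X) (f : X ⟶ Z) :
    GalTw.secOfPt K x ≫ (Over.pullback (SGA7.pt (K := k) K).hom).map f = GalTw.secOfPt K (x ≫ f) := by
  refine Over.OverMorphism.ext ?_
  apply pullback.hom_ext
  · show ((GalTw.secOfPt K x).left ≫ pullback.lift _ _ _) ≫ pullback.fst _ _ = _
    rw [Category.assoc, pullback.lift_fst, ← Category.assoc, secOfPt_fst, secOfPt_fst]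
    rfl
  · show ((GalTw.secOfPt K x).left ≫ pullback.lift _ _ _) ≫ pullback.snd _ _ = _
    rw [Category.assoc, pullback.lift_snd, GalTw.secOfPt_left, GalTw.secOfPt_left, pullback.lift_snd,
      pullback.lift_snd]

theorem secOfPt_mul (a b : SGA7.Pts K G) :
    GalTw.secOfPt K (a * b) =
      (GalTw.secOfPt K a * GalTw.secOfPt K b : 𝟙_ (Over (Spec (CommRingCat.of K))) ⟶ GalTw.bcK K G) := by
  let F := Over.pullback (SGA7.pt (K := k) K).hom
  have e : GalTw.secOfPt K (lift a b) =
      lift (GalTw.secOfPt K a) (GalTw.secOfPt K b) ≫ Functor.LaxMonoidal.μ F G G := by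
    rw [← cancel_mono (Functor.OplaxMonoidal.δ F G G), Category.assoc, Functor.Monoidal.μ_δ, Category.comp_id]
    apply CartesianMonoidalCategory.hom_ext
    · rw [lift_fst, Category.assoc, Functor.OplaxMonoidal.δ_fst, secOfPt_comp, lift_fst]
    · rw [lift_snd, Category.assoc, Functor.OplaxMonoidal.δ_snd, secOfPt_comp, lift_snd]
  show GalTw.secOfPt K (lift a b ≫ μ[G]) = lift (GalTw.secOfPt K a) (GalTw.secOfPt K b) ≫ μ[GalTw.bcK K G]
  rw [← secOfPt_comp, e, Category.assoc]
  rfl

set_option synthInstance.maxHeartbeats 400000 in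
theorem secOfPt_innK (g u : SGA7.Pts K G) :
    GalTw.secOfPt K u ≫ GalTw.innK K g = GalTw.secOfPt K (g * u * g⁻¹) := by
  let φ : SGA7.Pts K G →* (𝟙_ (Over (Spec (CommRingCat.of K))) ⟶ GalTw.bcK K G) :=
    MonoidHom.mk' (GalTw.secOfPt K) secOfPt_mul
  show GalTw.secOfPt K u ≫ AGF.conjBy (GalTw.secOfPt K g) (𝟙 (GalTw.bcK K G)) = φ (g * u * g⁻¹)
  unfold AGF.conjBy
  rw [map_mul, map_mul, map_inv, MonObj.comp_mul, MonObj.comp_mul, GrpObj.comp_inv, Category.comp_id,
    ← Category.assoc, toUnit_unique (GalTw.secOfPt K u ≫ toUnit _) (𝟙 _), Category.id_comp]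
  simp only [φ, MonoidHom.mk'_apply]

/-- An inner twist twists the Galois action on points by conjugation. -/
theorem ptsEquiv_smul_of_innTwist {z : GpH1.OneCocycle (K ≃ₐ[k] K) (SGA7.Pts K G)}
    (φ : GalTw.bcK K Y ≅ GalTw.bcK K G) (σ : K ≃ₐ[k] K) (h : (GalTw.cocycle φ σ).hom = GalTw.innK K (z σ))
    (y : SGA7.Pts K Y) : ptsEquiv φ (σ • y) = z σ * (σ • ptsEquiv φ y) * (z σ)⁻¹ := by
  apply (secEquiv G).injective
  show GalTw.secOfPt K _ = GalTw.secOfPt K _
  rw [← secOfPt_comp_cocycle, h, secOfPt_innK]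

section FiniteField

variable [Fintype k] [IsAlgClosure k K]

theorem mem_range_of_frob {c : K} (h : c ^ Fintype.card k = c) : c ∈ Set.range (algebraMap k K) := by
  classical
  let p : Polynomial K := Polynomial.X ^ Fintype.card k - Polynomial.X
  have hp : p ≠ 0 := FiniteField.X_pow_card_sub_X_ne_zero K Fintype.one_lt_card
  by_contra hc
  have h1 : insert c (Finset.univ.image (algebraMap k K)) ⊆ p.roots.toFinset := by
    intro x hx
    rw [Multiset.mem_toFinset, Polynomial.mem_roots hp]
    rcases Finset.mem_insert.mp hx with rfl | hx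
    · simp [p, h]
    · obtain ⟨a, -, rfl⟩ := Finset.mem_image.mp hx
      simp [p, ← map_pow, FiniteField.pow_card]
  have h2 := (Finset.card_le_card h1).trans ((Multiset.toFinset_card_le _).trans (Polynomial.card_roots' p))
  rw [Finset.card_insert_of_notMem (by simpa using hc),
    Finset.card_image_of_injective _ (algebraMap k K).injective, Finset.card_univ,
    FiniteField.X_pow_card_sub_X_natDegree_eq K Fintype.one_lt_card] at h2
  omega

/-- The geometric point of a rational point. -/
noncomputable def extend (a : SGA7.Pts k Y) : SGA7.Pts K Y :=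
  Over.homMk (Spec.map (CommRingCat.ofHom (algebraMap k K)) ≫ a.left) (by
    show (Spec.map _ ≫ a.left) ≫ Y.hom = Spec.map _
    rw [Category.assoc, Over.w a]
    show Spec.map _ ≫ Spec.map _ = Spec.map _
    rw [← Spec.map_comp]
    congr 1)

theorem frob_extend (a : SGA7.Pts k Y) :
    haveI : Algebra.IsAlgebraic k K := IsAlgClosure.isAlgebraic
    (FiniteField.frobeniusAlgEquivOfAlgebraic k K) • (extend (K := K) a) = extend a := by
  refine Over.OverMorphism.ext ?_
  show Spec.map _ ≫ Spec.map _ ≫ a.left = Spec.map _ ≫ a.left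
  rw [← Category.assoc, SGA7.spec_map_algEquiv_comp]

/-- Rational points are the geometric points fixed by Frobenius. -/
theorem bijective_extend :
    haveI : Algebra.IsAlgebraic k K := IsAlgClosure.isAlgebraic
    Function.Bijective (fun a : SGA7.Pts k Y =>
      (⟨extend a, frob_extend a⟩ : {y : SGA7.Pts K Y // (FiniteField.frobeniusAlgEquivOfAlgebraic k K) • y = y})) := by
  have : Algebra.IsAlgebraic k K := IsAlgClosure.isAlgebraic
  let s := Spec.map (CommRingCat.ofHom (algebraMap k K))
  have : Surjective s := ⟨fun _ => ⟨IsLocalRing.closedPoint K, Subsingleton.elim (α := PrimeSpectrum k) _ _⟩⟩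
  have : Flat s := HasRingHomProperty.Spec_iff.mpr (RingHom.flat_algebraMap_iff.mpr inferInstance)
  have : QuasiCompact s := inferInstanceAs (QuasiCompact (Spec.map (CommRingCat.ofHom (algebraMap k K))))
  refine ⟨fun a b h => Over.OverMorphism.ext ((cancel_epi s).1
    (congrArg CommaMorphism.left (congrArg Subtype.val h))), fun ⟨y, hy⟩ => ?_⟩
  obtain ⟨⟨w, φ⟩, hwφ⟩ := (Scheme.SpecToEquivOfField K Y.left).symm.surjective y.left
  have hy' : y.left = Spec.map φ ≫ Y.left.fromSpecResidueField w := hwφ.symm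
  let F : K ≃ₐ[k] K := FiniteField.frobeniusAlgEquivOfAlgebraic k K
  have h1 : φ ≫ CommRingCat.ofHom (F : K →+* K) = φ := by
    apply Spec.map_injective
    rw [← cancel_mono (Y.left.fromSpecResidueField w), Spec.map_comp, Category.assoc, ← hy']
    exact congrArg CommaMorphism.left hy
  have h2 : ∀ c, φ c ∈ (algebraMap k K).range := fun c =>
    mem_range_of_frob (congr($(h1).hom c))
  let ψ : Y.left.residueField w →+* k :=
    ((RingEquiv.ofBijective (algebraMap k K).rangeRestrict
      ⟨fun a b h => (algebraMap k K).injective (congrArg Subtype.val h),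
        (algebraMap k K).rangeRestrict_surjective⟩).symm : _ →+* k).comp (φ.hom.codRestrict _ h2)
  have hψ : CommRingCat.ofHom ψ ≫ CommRingCat.ofHom (algebraMap k K) = φ := by
    ext c
    exact congrArg Subtype.val ((RingEquiv.ofBijective (algebraMap k K).rangeRestrict
      ⟨fun a b h => (algebraMap k K).injective (congrArg Subtype.val h),
        (algebraMap k K).rangeRestrict_surjective⟩).apply_symm_apply (φ.hom.codRestrict _ h2 c))
  have hsψ : s ≫ Spec.map (CommRingCat.ofHom ψ) = Spec.map φ := by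
    rw [← Spec.map_comp, hψ]
  refine ⟨Over.homMk (Spec.map (CommRingCat.ofHom ψ) ≫ Y.left.fromSpecResidueField w) ?_, Subtype.ext ?_⟩
  · rw [← cancel_epi s]
    show s ≫ (Spec.map _ ≫ _) ≫ Y.hom = s ≫ Spec.map _
    rw [← Category.assoc s, ← Category.assoc s, hsψ, ← hy', Over.w y, ← Spec.map_comp]
    congr 1
  · refine Over.OverMorphism.ext ?_
    show s ≫ Spec.map _ ≫ _ = y.left
    rw [← Category.assoc, hsψ, hy']

theorem card_pts_eq :
    haveI : Algebra.IsAlgebraic k K := IsAlgClosure.isAlgebraic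
    Nat.card (SGA7.Pts k Y) =
      Nat.card {y : SGA7.Pts K Y // (FiniteField.frobeniusAlgEquivOfAlgebraic k K) • y = y} :=
  Nat.card_congr (Equiv.ofBijective _ bijective_extend)

end FiniteField

end Groth.Agent.StkDesc10
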