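import Mathlib.AlgebraicGeometry.Morphisms.Etale
import Mathlib.AlgebraicGeometry.Morphisms.FinitePresentation
import Mathlib.RingTheory.Etale.Basic

/-!
# Unique infinitesimal lifting gives etale morphisms
-/

set_option autoImplicit false
set_option backward.isDefEq.respectTransparency false
set_option backward.isDefEq.respectTransparency.types false

universe u

open CategoryTheory AlgebraicGeometry

namespace Groth.Agent.StkDesc10

variable {X Y : Scheme.{u}}

/-- A morphism locally of finite presentation with unique infinitesimal lifting is etale. -/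
theorem etale_of_lift (f : X ⟶ Y) [LocallyOfFinitePresentation f]
    (H : ∀ (R : Type u) [CommRing R] (I : Ideal R), I ^ 2 = ⊥ →
      ∀ (x₀ : Spec (CommRingCat.of (R ⧸ I)) ⟶ X) (y : Spec (CommRingCat.of R) ⟶ Y),
        x₀ ≫ f = Spec.map (CommRingCat.ofHom (Ideal.Quotient.mk I)) ≫ y →
        ∃! x : Spec (CommRingCat.of R) ⟶ X,
          Spec.map (CommRingCat.ofHom (Ideal.Quotient.mk I)) ≫ x = x₀ ∧ x ≫ f = y) : Etale f := by
  refine ⟨fun {U} hU {V} hV e => ?_⟩
  let := (f.appLE U V e).hom.toAlgebra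
  have hfp : Algebra.FinitePresentation Γ(Y, U) Γ(X, V) := f.finitePresentation_appLE hU hV e
  have hfe : Algebra.FormallyEtale Γ(Y, U) Γ(X, V) := by
    refine Algebra.FormallyEtale.iff_comp_bijective.mpr fun R _ _ I hI => ?_
    let q := Spec.map (CommRingCat.ofHom (Ideal.Quotient.mk I))
    let y := Spec.map (CommRingCat.ofHom (algebraMap Γ(Y, U) R)) ≫ hU.fromSpec
    have hα : ∀ {S : Type u} [CommRing S] [Algebra Γ(Y, U) S] (α : Γ(X, V) →ₐ[Γ(Y, U)] S),
        f.appLE U V e ≫ CommRingCat.ofHom α.toRingHom = CommRingCat.ofHom (algebraMap Γ(Y, U) S) :=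
      fun α => CommRingCat.hom_ext α.comp_algebraMap
    have hcomp : ∀ {S : Type u} [CommRing S] [Algebra Γ(Y, U) S] (α : Γ(X, V) →ₐ[Γ(Y, U)] S),
        (Spec.map (CommRingCat.ofHom α.toRingHom) ≫ hV.fromSpec) ≫ f =
          Spec.map (CommRingCat.ofHom (algebraMap Γ(Y, U) S)) ≫ hU.fromSpec := fun α => by
      rw [Category.assoc, ← hU.SpecMap_appLE_fromSpec f hV e, ← Spec.map_comp_assoc, hα]
    have hq : ∀ α : Γ(X, V) →ₐ[Γ(Y, U)] R,
        q ≫ Spec.map (CommRingCat.ofHom α.toRingHom) ≫ hV.fromSpec =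
          Spec.map (CommRingCat.ofHom ((Ideal.Quotient.mkₐ Γ(Y, U) I).comp α).toRingHom) ≫ hV.fromSpec := fun α => by
      rw [← Spec.map_comp_assoc, ← CommRingCat.ofHom_comp]
      rfl
    have hy0 : q ≫ y = Spec.map (CommRingCat.ofHom (algebraMap Γ(Y, U) (R ⧸ I))) ≫ hU.fromSpec := by
      rw [← Spec.map_comp_assoc, ← CommRingCat.ofHom_comp]
      rfl
    refine ⟨fun α β hαβ => ?_, fun α₀ => ?_⟩
    · have hu := (H R I hI _ y ((hcomp ((Ideal.Quotient.mkₐ Γ(Y, U) I).comp α)).trans hy0.symm)).unique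
        (y₁ := Spec.map (CommRingCat.ofHom α.toRingHom) ≫ hV.fromSpec)
        (y₂ := Spec.map (CommRingCat.ofHom β.toRingHom) ≫ hV.fromSpec) ⟨hq α, hcomp α⟩
        ⟨(hq β).trans (congrArg (fun γ : _ →ₐ[_] _ => Spec.map (CommRingCat.ofHom γ.toRingHom) ≫ hV.fromSpec) hαβ.symm), hcomp β⟩
      rw [cancel_mono, Spec.map_inj] at hu
      exact AlgHom.ext fun c => congr($hu c)
    · obtain ⟨x, ⟨hx0, hxy⟩, -⟩ := H R I hI _ y ((hcomp α₀).trans hy0.symm)
      have hr : Set.range x ⊆ Set.range hV.fromSpec := by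
        rintro _ ⟨P, rfl⟩
        have hle : I ≤ P.asIdeal := fun a ha => P.2.mem_of_pow_mem 2 (by
          have : a ^ 2 ∈ I ^ 2 := Ideal.pow_mem_pow ha 2
          rw [hI, Ideal.mem_bot] at this
          rw [this]; exact zero_mem _)
        have hP : (P : PrimeSpectrum R) ∈ Set.range (PrimeSpectrum.comap (Ideal.Quotient.mk I)) := by
          rw [range_comap_of_surjective _ _ Ideal.Quotient.mk_surjective, Ideal.mk_ker]
          exact hle
        obtain ⟨P₀, hP₀⟩ := hP
        refine ⟨Spec.map (CommRingCat.ofHom α₀.toRingHom) P₀, ?_⟩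
        exact (congr($(hx0).base P₀)).symm.trans (congrArg x hP₀)
      obtain ⟨ψ, hψ⟩ := Spec.map_surjective (IsOpenImmersion.lift hV.fromSpec x hr)
      have hψx : Spec.map ψ ≫ hV.fromSpec = x := by rw [hψ, IsOpenImmersion.lift_fac]
      have hc : f.appLE U V e ≫ ψ = CommRingCat.ofHom (algebraMap Γ(Y, U) R) := by
        apply Spec.map_injective
        rw [← cancel_mono hU.fromSpec, Spec.map_comp, Category.assoc, hU.SpecMap_appLE_fromSpec f hV e,
          ← Category.assoc, hψx, hxy]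
      let α : Γ(X, V) →ₐ[Γ(Y, U)] R := { ψ.hom with commutes' := fun r => congr($(hc).hom r) }
      have hαψ : CommRingCat.ofHom α.toRingHom = ψ := rfl
      refine ⟨α, ?_⟩
      have h2 : Spec.map (CommRingCat.ofHom ((Ideal.Quotient.mkₐ Γ(Y, U) I).comp α).toRingHom) ≫ hV.fromSpec =
          Spec.map (CommRingCat.ofHom α₀.toRingHom) ≫ hV.fromSpec := by
        rw [← hq, hαψ, hψx, hx0]
      rw [cancel_mono, Spec.map_inj] at h2
      exact AlgHom.ext fun c => congr($h2 c)
  exact ⟨hfe, hfp⟩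

end Groth.Agent.StkDesc10
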