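import Groth.Agent.StkDesc10.FrobMap
import Groth.Agent.StkDesc10.EtaleLift
import Groth.Agent.AlgSpPts.Geom
import Groth.Agent.H23.GeomConn
import Groth.Agent.S0348
import Mathlib.AlgebraicGeometry.Noetherian
import Mathlib.CategoryTheory.Monoidal.Cartesian.Over

/-!
# Lang's theorem for twisted Frobenius maps
-/

set_option autoImplicit false
set_option backward.isDefEq.respectTransparency false
set_option backward.isDefEq.respectTransparency.types false
set_option linter.unusedSectionVars false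

universe u

open CategoryTheory CategoryTheory.Limits MonoidalCategory CartesianMonoidalCategory MonObj GrpObj AlgebraicGeometry

namespace Groth.Agent.StkDesc10

theorem lfp_of_lft {X Y : Scheme.{u}} (f : X ⟶ Y) [LocallyOfFiniteType f] [IsLocallyNoetherian Y] :
    LocallyOfFinitePresentation f := by
  refine ⟨fun {U} hU {V} hV e => ?_⟩
  have : IsNoetherianRing Γ(Y, U) := IsLocallyNoetherian.component_noetherian ⟨U, hU⟩
  exact RingHom.FinitePresentation.of_finiteType.mp (f.finiteType_appLE hU hV e)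

variable {k : Type u} [Field k] [Fintype k] (p : ℕ) [Fact p.Prime] [CharP k p]
variable {Ω : Type u} [Field Ω] [Algebra k Ω] [IsAlgClosure k Ω]
variable {A B : Over (Spec (CommRingCat.of k))} [GrpObj A] [GrpObj B] (c : AlgGrp.Action B A)

local notation "W" => A ⊗ SGA7.pt (K := k) Ω

/-- The twisted Frobenius on the base change. -/
noncomputable def twFr (g : SGA7.pt (K := k) Ω ⟶ B) : W ⟶ A :=
  lift (snd A (SGA7.pt Ω) ≫ g) (fst A (SGA7.pt Ω) ≫ Fr p A) ≫ c.act

/-- The map `a ↦ a⁻¹ · a₀ · T a`. -/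
noncomputable def langPsi (g : SGA7.pt (K := k) Ω ⟶ B) (a₀ : SGA7.pt (K := k) Ω ⟶ A) : W ⟶ W :=
  lift ((fst A (SGA7.pt Ω))⁻¹ * (snd A (SGA7.pt Ω) ≫ a₀) * twFr p c g) (snd A (SGA7.pt Ω))

theorem langPsi_snd (g : SGA7.pt (K := k) Ω ⟶ B) (a₀ : SGA7.pt (K := k) Ω ⟶ A) :
    langPsi p c g a₀ ≫ snd A (SGA7.pt Ω) = snd A (SGA7.pt Ω) := lift_snd _ _

theorem comp_langPsi_fst (g : SGA7.pt (K := k) Ω ⟶ B) (a₀ : SGA7.pt (K := k) Ω ⟶ A)
    {Z : Over (Spec (CommRingCat.of k))} (x : Z ⟶ W) :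
    x ≫ langPsi p c g a₀ ≫ fst A (SGA7.pt Ω) = (x ≫ fst A (SGA7.pt Ω))⁻¹ * ((x ≫ snd A (SGA7.pt Ω)) ≫ a₀) *
      lift ((x ≫ snd A (SGA7.pt Ω)) ≫ g) ((x ≫ fst A (SGA7.pt Ω)) ≫ Fr p A) ≫ c.act := by
  rw [langPsi, lift_fst, MonObj.comp_mul, MonObj.comp_mul, GrpObj.comp_inv, twFr, ← Category.assoc x (lift _ _),
    comp_lift, Category.assoc, Category.assoc, Category.assoc]

/-- The map has unique infinitesimal liftings. -/
theorem existsUnique_lift (g : SGA7.pt (K := k) Ω ⟶ B) (a₀ : SGA7.pt (K := k) Ω ⟶ A)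
    {Z Z₀ : Over (Spec (CommRingCat.of k))} (i : Z₀ ⟶ Z) (j : Z ⟶ Z₀) (hij : i ≫ j = Fr p Z₀)
    (hji : j ≫ i = Fr p Z) (xo : Z₀ ⟶ W) (y : Z ⟶ W) (h : xo ≫ langPsi p c g a₀ = i ≫ y) :
    ∃! x : Z ⟶ W, i ≫ x = xo ∧ x ≫ langPsi p c g a₀ = y := by
  let y₂ := y ≫ snd A (SGA7.pt Ω)
  let T' := lift (y₂ ≫ g) (j ≫ xo ≫ fst A (SGA7.pt Ω)) ≫ c.act
  let a := (y₂ ≫ a₀) * T' * (y ≫ fst A (SGA7.pt Ω))⁻¹
  have h2 : xo ≫ snd A (SGA7.pt Ω) = i ≫ y₂ := by
    rw [← langPsi_snd p c g a₀, ← Category.assoc, h, Category.assoc]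
  have hT : i ≫ T' = lift ((xo ≫ snd A (SGA7.pt Ω)) ≫ g) ((xo ≫ fst A (SGA7.pt Ω)) ≫ Fr p A) ≫ c.act := by
    show i ≫ lift _ _ ≫ c.act = _
    rw [← Category.assoc i, comp_lift, h2, ← Category.assoc i j, hij, Fr_comp]
    simp only [Category.assoc]
  have h1 : i ≫ y ≫ fst A (SGA7.pt Ω) = (xo ≫ fst A (SGA7.pt Ω))⁻¹ * ((xo ≫ snd A (SGA7.pt Ω)) ≫ a₀) *
      (i ≫ T') := by
    rw [hT, ← comp_langPsi_fst, ← Category.assoc xo, h, Category.assoc]
  have ha : i ≫ a = xo ≫ fst A (SGA7.pt Ω) := by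
    show i ≫ (_ * _ * _) = _
    rw [MonObj.comp_mul, MonObj.comp_mul, GrpObj.comp_inv, h1, ← Category.assoc i y₂, ← h2]
    group
  have hfr : a ≫ Fr p A = j ≫ xo ≫ fst A (SGA7.pt Ω) := by
    rw [← Fr_comp, ← hji, Category.assoc, ha]
  refine ⟨lift a y₂, ⟨?_, ?_⟩, fun x ⟨hx0, hxψ⟩ => ?_⟩
  · rw [comp_lift, ha, ← h2, ← comp_lift, lift_fst_snd, Category.comp_id]
  · apply CartesianMonoidalCategory.hom_ext
    · rw [Category.assoc, comp_langPsi_fst, lift_fst, lift_snd, hfr]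
      show a⁻¹ * (y₂ ≫ a₀) * T' = _
      simp only [a]
      group
    · rw [Category.assoc, langPsi_snd, lift_snd]
  · have hx2 : x ≫ snd A (SGA7.pt Ω) = y₂ := by
      rw [← langPsi_snd p c g a₀, ← Category.assoc, hxψ]
    have hxfr : (x ≫ fst A (SGA7.pt Ω)) ≫ Fr p A = j ≫ xo ≫ fst A (SGA7.pt Ω) := by
      rw [← Fr_comp, ← hji, Category.assoc, ← Category.assoc i, hx0]
    have h3 := comp_langPsi_fst p c g a₀ x
    rw [← Category.assoc, hxψ, hx2, hxfr] at h3
    have h4 : x ≫ fst A (SGA7.pt Ω) = a := by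
      show _ = (y₂ ≫ a₀) * T' * _
      rw [h3]
      simp only [T']
      group
    apply CartesianMonoidalCategory.hom_ext
    · rw [lift_fst, h4]
    · rw [lift_snd, hx2]

variable [Smooth A.hom]

instance lft_W_snd : LocallyOfFiniteType (snd A (SGA7.pt (K := k) Ω)).left :=
  MorphismProperty.pullback_snd (P := @LocallyOfFiniteType) A.hom (SGA7.pt (K := k) Ω).hom inferInstance

theorem etale_langPsi (g : SGA7.pt (K := k) Ω ⟶ B) (a₀ : SGA7.pt (K := k) Ω ⟶ A) :
    Etale (langPsi p c g a₀).left := by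
  have : IsLocallyNoetherian (SGA7.pt (K := k) Ω).left :=
    inferInstanceAs (IsLocallyNoetherian (Spec (CommRingCat.of Ω)))
  have : IsLocallyNoetherian (W).left :=
    LocallyOfFiniteType.isLocallyNoetherian (snd A (SGA7.pt (K := k) Ω)).left
  have : LocallyOfFiniteType (langPsi p c g a₀).left := by
    have : LocallyOfFiniteType ((langPsi p c g a₀).left ≫ (snd A (SGA7.pt (K := k) Ω)).left) := by
      rw [← Over.comp_left, langPsi_snd]; infer_instance
    exact locallyOfFiniteType_of_comp _ (snd A (SGA7.pt (K := k) Ω)).left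
  have := lfp_of_lft (langPsi p c g a₀).left
  refine etale_of_lift _ fun R _ I hI x₀ y hxy => ?_
  obtain ⟨j, hij, hji⟩ := exists_factor_thickening p I hI (y ≫ (W).hom)
  let Z := Over.mk (y ≫ (W).hom)
  let Z₀ := Over.mk (Spec.map (CommRingCat.ofHom (Ideal.Quotient.mk I)) ≫ y ≫ (W).hom)
  let i : Z₀ ⟶ Z := Over.homMk (Spec.map (CommRingCat.ofHom (Ideal.Quotient.mk I))) rfl
  let yo : Z ⟶ W := Over.homMk y rfl
  let xo : Z₀ ⟶ W := Over.homMk x₀ (by
    show x₀ ≫ (W).hom = Spec.map _ ≫ y ≫ (W).hom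
    rw [← reassoc_of% hxy, Over.w (langPsi p c g a₀)])
  obtain ⟨x, ⟨hx0, hxy'⟩, huniq⟩ := existsUnique_lift p c g a₀ i j hij hji xo yo (Over.OverMorphism.ext hxy)
  refine ⟨x.left, ⟨congrArg CommaMorphism.left hx0, congrArg CommaMorphism.left hxy'⟩, fun x' ⟨h0, hy'⟩ => ?_⟩
  have hw : x' ≫ (W).hom = y ≫ (W).hom := by rw [← hy', Category.assoc, Over.w (langPsi p c g a₀)]
  exact congrArg CommaMorphism.left
    (huniq (Over.homMk x' hw) ⟨Over.OverMorphism.ext h0, Over.OverMorphism.ext hy'⟩)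

variable [QuasiCompact A.hom] [ConnectedSpace A.left]

theorem irreducibleSpace_W : IrreducibleSpace (W).left := by
  have := H23.GeomConn.of_point k A.hom η[A].left (Over.w η[A])
  have : Nonempty (Spec (CommRingCat.of Ω) : Scheme) := ⟨IsLocalRing.closedPoint Ω⟩
  have : Subsingleton (Spec (CommRingCat.of Ω) : Scheme) := inferInstanceAs (Subsingleton (PrimeSpectrum Ω))
  have : GeometricallyConnected (pullback.snd A.hom (SGA7.pt (K := k) Ω).hom) :=
    MorphismProperty.pullback_snd _ _ inferInstance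
  have : Subsingleton (SGA7.pt (K := k) Ω).left := inferInstanceAs (Subsingleton (PrimeSpectrum Ω))
  have : Nonempty (SGA7.pt (K := k) Ω).left := ⟨IsLocalRing.closedPoint Ω⟩
  have hc : ConnectedSpace (pullback A.hom (SGA7.pt (K := k) Ω).hom : Scheme) :=
    GeometricallyConnected.connectedSpace_of_subsingleton (f := pullback.snd A.hom (SGA7.pt (K := k) Ω).hom)
  let A' : Over (Spec (CommRingCat.of Ω)) := (Over.pullback (SGA7.pt (K := k) Ω).hom).obj A
  let : GrpObj A' := Functor.grpObjObj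
  have : ConnectedSpace A'.left := hc
  exact Groth.Agent.S0348.result Ω A'

variable (hT : ∀ (g : SGA7.pt (K := k) Ω ⟶ B) (a b : SGA7.pt (K := k) Ω ⟶ A),
    lift g (a * b) ≫ c.act = (lift g a ≫ c.act) * (lift g b ≫ c.act))

include p hT in
/-- Lang's theorem: `a ↦ a · T(a)⁻¹` is surjective on geometric points, for `T` a twisted Frobenius. -/
theorem lang_twisted (g : SGA7.pt (K := k) Ω ⟶ B) (a₀ : SGA7.pt (K := k) Ω ⟶ A) :
    ∃ a : SGA7.pt (K := k) Ω ⟶ A, a = a₀ * lift g (autL k (frob k Ω) ≫ a) ≫ c.act := by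
  have : Algebra.IsAlgebraic k Ω := IsAlgClosure.isAlgebraic
  have : IsAlgClosed Ω := IsAlgClosure.isAlgClosed k
  have := irreducibleSpace_W (A := A) (Ω := Ω)
  have : JacobsonSpace (SGA7.pt (K := k) Ω).left :=
    inferInstanceAs (JacobsonSpace (Spec (CommRingCat.of Ω)))
  have : JacobsonSpace (W).left := LocallyOfFiniteType.jacobsonSpace (snd A (SGA7.pt (K := k) Ω)).left
  have ho : ∀ a₁ : SGA7.pt (K := k) Ω ⟶ A,
      IsOpen (Set.range (langPsi p c g a₁).left) ∧ (Set.range (langPsi p c g a₁).left).Nonempty := fun a₁ => by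
    have := etale_langPsi p c g a₁
    exact ⟨(langPsi p c g a₁).left.isOpenMap.isOpen_range, Set.range_nonempty _⟩
  obtain ⟨y, hy⟩ : ((Set.range (langPsi p c g a₀).left ∩ Set.range (langPsi p c g 1).left) ∩
      closedPoints (W).left).Nonempty :=
    nonempty_inter_closedPoints
      (nonempty_preirreducible_inter (ho a₀).1 (ho 1).1 (ho a₀).2 (ho 1).2)
      ((ho a₀).1.inter (ho 1).1).isLocallyClosed
  have hyc : IsClosed {y} := hy.2
  let yp := pointOfClosedPoint (snd A (SGA7.pt (K := k) Ω)).left y hyc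
  have hyp : yp ≫ (snd A (SGA7.pt (K := k) Ω)).left = 𝟙 _ := pointOfClosedPoint_comp _ _ _
  let yo : SGA7.pt (K := k) Ω ⟶ W := Over.homMk yp (by
    rw [← Over.w (snd A (SGA7.pt (K := k) Ω)), ← Category.assoc, hyp]; exact Category.id_comp _)
  have key : ∀ a₁ : SGA7.pt (K := k) Ω ⟶ A, y ∈ Set.range (langPsi p c g a₁).left →
      ∃ a : SGA7.pt (K := k) Ω ⟶ A, yo ≫ fst A (SGA7.pt Ω) = a⁻¹ * a₁ * lift g (autL k (frob k Ω) ≫ a) ≫ c.act := by
    intro a₁ ha₁
    have := etale_langPsi p c g a₁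
    obtain ⟨w, hw⟩ := ha₁
    let Q := pullback (langPsi p c g a₁) yo
    have hsq : IsPullback (pullback.fst (langPsi p c g a₁) yo).left (pullback.snd (langPsi p c g a₁) yo).left
        (langPsi p c g a₁).left yo.left :=
      (IsPullback.of_hasPullback (langPsi p c g a₁) yo).map (Over.forget _)
    have : Etale (pullback.snd (langPsi p c g a₁) yo).left :=
      MorphismProperty.of_isPullback hsq inferInstance
    obtain ⟨q, -⟩ : ∃ q : (pullback (langPsi p c g a₁) yo).left,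
        (pullback.snd (langPsi p c g a₁) yo).left q = IsLocalRing.closedPoint Ω := by
      obtain ⟨z, -, hz2⟩ := Scheme.Pullback.exists_preimage_pullback (f := (langPsi p c g a₁).left) (g := yo.left)
        w (IsLocalRing.closedPoint Ω) (by rw [hw]; exact (pointOfClosedPoint_apply _ _ _ _).symm)
      exact ⟨hsq.isoPullback.inv z, by rw [← Scheme.Hom.comp_apply, hsq.isoPullback_inv_snd]; exact hz2⟩
    obtain ⟨σ, hσ, -⟩ := AlgSpPts.exists_section_of_etale (pullback.snd (langPsi p c g a₁) yo) q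
    let x := σ ≫ pullback.fst (langPsi p c g a₁) yo
    have hx : x ≫ langPsi p c g a₁ = yo := by
      simp only [x, Category.assoc, pullback.condition, reassoc_of% hσ]
    have hx2 : x ≫ snd A (SGA7.pt Ω) = 𝟙 _ := by
      rw [← langPsi_snd p c g a₁, ← Category.assoc, hx]
      exact Over.OverMorphism.ext hyp
    refine ⟨x ≫ fst A (SGA7.pt Ω), ?_⟩
    rw [← hx, Category.assoc, comp_langPsi_fst, hx2, Category.id_comp, Category.id_comp, autL_frob_comp p]
  obtain ⟨a, ha⟩ := key a₀ hy.1.1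
  obtain ⟨b, hb⟩ := key 1 hy.1.2
  rw [hb, _root_.mul_one] at ha
  let τ : (SGA7.pt (K := k) Ω ⟶ A) →* (SGA7.pt (K := k) Ω ⟶ A) :=
    MonoidHom.mk' (fun a => lift g (autL k (frob k Ω) ≫ a) ≫ c.act) fun a b => by
      show lift g (autL k (frob k Ω) ≫ (a * b)) ≫ c.act = _
      rw [MonObj.comp_mul, hT]
  refine ⟨a * b⁻¹, ?_⟩
  show a * b⁻¹ = a₀ * τ (a * b⁻¹)
  have ha' : b⁻¹ * τ b = a⁻¹ * a₀ * τ a := ha
  rw [map_mul, map_inv, ← _root_.mul_assoc, show a₀ * τ a = a * (b⁻¹ * τ b) by rw [ha']; group]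
  group

end Groth.Agent.StkDesc10
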