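import Groth.Agent.GalDescX.Basic
import Mathlib.AlgebraicGeometry.AffineScheme
import Mathlib.AlgebraicGeometry.Pullbacks
import Mathlib.Algebra.Category.Ring.Constructions

/-!
# Galois descent of affine schemes
-/

set_option autoImplicit false
set_option backward.isDefEq.respectTransparency false
set_option backward.isDefEq.respectTransparency.types false
set_option linter.unusedSectionVars false
set_option linter.style.haveILetI false

universe u

open CategoryTheory CategoryTheory.Limits AlgebraicGeometry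
open scoped TensorProduct

namespace Groth.Agent.StkDesc10

variable {K L : Type u} [Field K] [Field L] [Algebra K L] [FiniteDimensional K L] [IsGalois K L]

/-- An algebra with a semilinear Galois action is extended from its invariants. -/
theorem exists_invariant_algebra (A : Type u) [CommRing A] [Algebra L A]
    (φ : (L ≃ₐ[K] L) → (A →+* A)) (h1 : φ 1 = RingHom.id A) (hmul : ∀ σ τ, φ (σ * τ) = (φ σ).comp (φ τ))
    (hsemi : ∀ (σ : L ≃ₐ[K] L) (c : L), φ σ (algebraMap L A c) = algebraMap L A (σ c)) :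
    ∃ (B : Type u) (_ : CommRing B) (i : K →+* B) (j : B →+* A),
      (∀ σ, (φ σ).comp j = j) ∧
      IsPushout (CommRingCat.ofHom (algebraMap K L)) (CommRingCat.ofHom i)
        (CommRingCat.ofHom (algebraMap L A)) (CommRingCat.ofHom j) := by
  letI : Algebra K A := ((algebraMap L A).comp (algebraMap K L)).toAlgebra
  haveI : IsScalarTower K L A := IsScalarTower.of_algebraMap_eq fun _ => rfl
  letI : DistribMulAction (L ≃ₐ[K] L) A :=
    { smul := fun σ a => φ σ a
      one_smul := fun a => by show φ 1 a = a; rw [h1]; rfl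
      mul_smul := fun σ τ a => by show φ (σ * τ) a = φ σ (φ τ a); rw [hmul]; rfl
      smul_zero := fun σ => map_zero (φ σ)
      smul_add := fun σ => map_add (φ σ) }
  have hs : ∀ (σ : L ≃ₐ[K] L) (c : L) (v : A), σ • (c • v) = σ c • σ • v := fun σ c v => by
    show φ σ (c • v) = σ c • φ σ v
    rw [Algebra.smul_def, Algebra.smul_def, map_mul, hsemi]
  let B : Subalgebra K A :=
    { carrier := {a | ∀ σ, φ σ a = a}
      mul_mem' := fun {a b} ha hb σ => by rw [map_mul, ha σ, hb σ]
      add_mem' := fun {a b} ha hb σ => by rw [map_add, ha σ, hb σ]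
      algebraMap_mem' := fun r σ => by
        show φ σ (algebraMap L A (algebraMap K L r)) = _
        rw [hsemi, AlgEquiv.commutes]
        rfl }
  refine ⟨B, inferInstance, algebraMap K B, B.subtype, fun σ => RingHom.ext fun b => b.2 σ, ?_⟩
  let e₀ : L ⊗[K] GalDescX.fixedSubmodule hs ≃ₗ[L] A := GalDescX.descentEquiv hs
  let eB : B ≃ₗ[K] GalDescX.fixedSubmodule hs :=
    { toFun := fun b => ⟨b.1, b.2⟩
      invFun := fun b => ⟨b.1, b.2⟩
      map_add' := fun _ _ => rfl
      map_smul' := fun _ _ => rfl }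
  let e : L ⊗[K] B ≃ₗ[L] A := (TensorProduct.AlgebraTensorModule.congr (LinearEquiv.refl L L) eB).trans e₀
  have he : ∀ b : B, e (1 ⊗ₜ b) = (b : A) := fun b => by
    show e₀ (1 ⊗ₜ eB b) = _
    rw [GalDescX.descentEquiv_tmul, one_smul]
    rfl
  have : Algebra.IsPushout K L B A := ⟨IsBaseChange.of_equiv e he⟩
  exact CommRingCat.isPushout_iff_isPushout.mpr this

/-- An affine scheme with semilinear Galois action descends. -/
theorem exists_descent_affine (E : Scheme.{u}) [IsAffine E] (sE : E ⟶ Spec (CommRingCat.of L))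
    (Φ : (L ≃ₐ[K] L) → (E ⟶ E)) (h1 : Φ 1 = 𝟙 E) (hmul : ∀ σ τ, Φ σ ≫ Φ τ = Φ (σ * τ))
    (hsE : ∀ σ : L ≃ₐ[K] L, Φ σ ≫ sE = sE ≫ Spec.map (CommRingCat.ofHom (σ : L →+* L))) :
    ∃ (P : Scheme.{u}) (f : E ⟶ P) (p : P ⟶ Spec (CommRingCat.of K)), (∀ σ, Φ σ ≫ f = f) ∧
      IsPullback f sE p (Spec.map (CommRingCat.ofHom (algebraMap K L))) := by
  obtain ⟨ψ, hψ⟩ := Spec.map_surjective (E.isoSpec.inv ≫ sE)
  letI : Algebra L Γ(E, ⊤) := ψ.hom.toAlgebra
  have hnat : ∀ σ, Spec.map ((Φ σ).appTop) = E.isoSpec.inv ≫ Φ σ ≫ E.isoSpec.hom := fun σ => by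
    rw [← Scheme.isoSpec_inv_naturality_assoc, Iso.inv_hom_id, Category.comp_id]
  have hc : ∀ σ : L ≃ₐ[K] L, ψ ≫ (Φ σ).appTop = CommRingCat.ofHom (σ : L →+* L) ≫ ψ := fun σ => by
    apply Spec.map_injective
    rw [Spec.map_comp, Spec.map_comp, hψ, hnat, Category.assoc, Category.assoc, Iso.hom_inv_id_assoc, hsE,
      Category.assoc]
  obtain ⟨B, _, i, j, hj, hpo⟩ := exists_invariant_algebra (K := K) (L := L) Γ(E, ⊤)
    (fun σ => (Φ σ).appTop.hom) (by rw [h1, Scheme.Hom.id_appTop]; rfl)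
    (fun σ τ => by rw [← hmul, Scheme.Hom.comp_appTop]; rfl)
    (fun σ c => congr($(hc σ).hom c))
  refine ⟨Spec (CommRingCat.of B), E.isoSpec.hom ≫ Spec.map (CommRingCat.ofHom j),
    Spec.map (CommRingCat.ofHom i), fun σ => ?_, ?_⟩
  · have : Spec.map ((Φ σ).appTop) ≫ Spec.map (CommRingCat.ofHom j) = Spec.map (CommRingCat.ofHom j) := by
      rw [← Spec.map_comp]
      congr 1
      ext b
      exact congr($(hj σ) b)
    conv_rhs => rw [← this, hnat]
    simp
  · refine (isPullback_SpecMap_of_isPushout _ _ _ _ hpo).flip.of_iso E.isoSpec.symm (Iso.refl _) (Iso.refl _)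
      (Iso.refl _) (by simp) ?_ (by simp) (by simp)
    show Spec.map (CommRingCat.ofHom (algebraMap L Γ(E, ⊤))) ≫ 𝟙 _ = E.isoSpec.inv ≫ sE
    rw [Category.comp_id, ← hψ]
    rfl

end Groth.Agent.StkDesc10
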