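import Groth.Prelude.Def_GalTw
import Mathlib.AlgebraicGeometry.Sites.Fpqc
import Mathlib.AlgebraicGeometry.Morphisms.FlatMono
import Mathlib.AlgebraicGeometry.Morphisms.Etale
import Mathlib.RingTheory.Etale.Field
import Mathlib.FieldTheory.Galois.Basic

/-!
# Galois covers of schemes descend invariant morphisms
-/

set_option autoImplicit false
set_option backward.isDefEq.respectTransparency false
set_option backward.isDefEq.respectTransparency.types false

set_option linter.style.haveILetI false
set_option linter.unusedSectionVars false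

universe u

open CategoryTheory CategoryTheory.Limits MonoidalCategory CartesianMonoidalCategory MonObj AlgebraicGeometry

namespace Groth.Agent.StkDesc10

variable {k : Type u} [Field k] {K L : Type u} [Field K] [Field L] [Algebra k K] [Algebra k L] [Algebra K L]
  [IsScalarTower k K L]

variable (k K L) in
/-- The projection `Spec L ⟶ Spec K` over `k`. -/
noncomputable def cover : SGA7.pt (K := k) L ⟶ SGA7.pt (K := k) K :=
  Over.homMk (Spec.map (CommRingCat.ofHom (algebraMap K L))) (by
    show Spec.map _ ≫ Spec.map _ = Spec.map _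
    rw [← Spec.map_comp, ← CommRingCat.ofHom_comp, IsScalarTower.algebraMap_eq k K L])

variable (k) in
/-- A `K`-automorphism of `L`, acting on `Spec L` over `k`. -/
noncomputable abbrev autL (σ : L ≃ₐ[K] L) : SGA7.pt (K := k) L ⟶ SGA7.pt (K := k) L :=
  SGA7.specAut (σ.restrictScalars k)

theorem autL_cover (σ : L ≃ₐ[K] L) : autL k σ ≫ cover k K L = cover k K L :=
  Over.OverMorphism.ext (SGA7.spec_map_algEquiv_comp σ)

theorem autL_one : autL k (1 : L ≃ₐ[K] L) = 𝟙 _ := GalTw.specAut_one L

theorem autL_mul (σ τ : L ≃ₐ[K] L) : autL k (σ * τ) = autL k σ ≫ autL k τ :=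
  GalTw.specAut_mul L (σ.restrictScalars k) (τ.restrictScalars k)

variable [FiniteDimensional K L]

omit [FiniteDimensional K L] in
instance surjective_cover : Surjective (cover k K L).left :=
  ⟨fun _ => ⟨IsLocalRing.closedPoint L, Subsingleton.elim (α := PrimeSpectrum K) _ _⟩⟩

omit [FiniteDimensional K L] in
instance flat_cover : Flat (cover k K L).left :=
  HasRingHomProperty.Spec_iff.mpr (RingHom.flat_algebraMap_iff.mpr inferInstance)

omit [FiniteDimensional K L] in
instance quasiCompact_cover : QuasiCompact (cover k K L).left :=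
  inferInstanceAs (QuasiCompact (Spec.map (CommRingCat.ofHom (algebraMap K L))))

variable [IsGalois K L]

instance etale_cover : Etale (cover k K L).left := by
  haveI : Algebra.Etale K L :=
    ⟨Algebra.FormallyEtale.of_isSeparable K L, Algebra.FinitePresentation.of_finiteType.1 inferInstance⟩
  exact HasRingHomProperty.Spec_iff.mpr (RingHom.etale_algebraMap.mpr inferInstance)

variable {Z Z' : Over (Spec (CommRingCat.of k))} {q : Z' ⟶ Z} {s : Z' ⟶ SGA7.pt (K := k) L}
  {z : Z ⟶ SGA7.pt (K := k) K}

omit [IsScalarTower k K L] [FiniteDimensional K L] [IsGalois K L] in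
theorem isPullback_left {A B C D : Over (Spec (CommRingCat.of k))} {f : A ⟶ B} {g : A ⟶ C} {h : B ⟶ D} {i : C ⟶ D}
    (sq : IsPullback f g h i) : IsPullback f.left g.left h.left i.left :=
  sq.map (Over.forget _)

/-- The cover pulled back. -/
theorem isCover_of_pullback (sq : IsPullback q s z (cover k K L)) :
    Etale q.left ∧ Flat q.left ∧ Surjective q.left ∧ QuasiCompact q.left := by
  have h := isPullback_left sq
  haveI : Etale (cover k K L).left := etale_cover
  exact ⟨MorphismProperty.of_isPullback h.flip inferInstance, MorphismProperty.of_isPullback h.flip inferInstance,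
    MorphismProperty.of_isPullback h.flip inferInstance, MorphismProperty.of_isPullback h.flip inferInstance⟩

/-- The automorphism of a pulled back cover. -/
noncomputable def lam (sq : IsPullback q s z (cover k K L)) (σ : L ≃ₐ[K] L) : Z' ⟶ Z' :=
  sq.lift q (s ≫ autL k σ) (by rw [Category.assoc, autL_cover, sq.w])

theorem lam_fst (sq : IsPullback q s z (cover k K L)) (σ : L ≃ₐ[K] L) : lam sq σ ≫ q = q :=
  sq.lift_fst _ _ _

theorem lam_snd (sq : IsPullback q s z (cover k K L)) (σ : L ≃ₐ[K] L) : lam sq σ ≫ s = s ≫ autL k σ :=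
  sq.lift_snd _ _ _

theorem lam_eq (sq : IsPullback q s z (cover k K L)) (σ : L ≃ₐ[K] L) (t : Z' ⟶ Z') (h₁ : t ≫ q = q)
    (h₂ : t ≫ s = s ≫ autL k σ) : lam sq σ = t :=
  sq.hom_ext ((lam_fst sq σ).trans h₁.symm) ((lam_snd sq σ).trans h₂.symm)

/-- Invariant morphisms of schemes out of a pulled back Galois cover agree on the kernel pair. -/
theorem comp_eq_of_invariant (sq : IsPullback q s z (cover k K L)) {W : Scheme.{u}} (h : Z'.left ⟶ W)
    (hinv : ∀ σ : L ≃ₐ[K] L, (lam sq σ).left ≫ h = h) :
    pullback.fst q.left q.left ≫ h = pullback.snd q.left q.left ≫ h := by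
  obtain ⟨he, -, -, -⟩ := isCover_of_pullback sq
  have sq' := isPullback_left sq
  have e : ∀ σ, (lam sq σ).left ≫ q.left = q.left := fun σ => congrArg CommaMorphism.left (lam_fst sq σ)
  have e' : ∀ σ, (lam sq σ).left ≫ s.left = s.left ≫ Spec.map (CommRingCat.ofHom (σ : L →+* L)) := fun σ =>
    congrArg CommaMorphism.left (lam_snd sq σ)
  let m : (L ≃ₐ[K] L) → (Z'.left ⟶ pullback q.left q.left) := fun σ =>
    pullback.lift (𝟙 _) (lam sq σ).left (by rw [Category.id_comp, e])
  have hm : ∀ σ, m σ ≫ pullback.fst q.left q.left = 𝟙 _ := fun σ => pullback.lift_fst _ _ _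
  have hm' : ∀ σ, m σ ≫ pullback.snd q.left q.left = (lam sq σ).left := fun σ => pullback.lift_snd _ _ _
  haveI : ∀ σ, IsOpenImmersion (m σ) := fun σ => by
    haveI : Etale (m σ) := MorphismProperty.of_postcomp (W := @Etale) (W' := @Etale) (m σ)
      (pullback.fst q.left q.left) inferInstance (by rw [hm]; infer_instance)
    haveI : Mono (m σ) := mono_of_mono_fac (hm σ)
    exact IsOpenImmersion.of_flat_of_mono (m σ)
  have hcov : TopologicalSpace.IsOpenCover (fun σ => (m σ).opensRange) := by
    refine TopologicalSpace.IsOpenCover.mk (top_le_iff.mp fun z₀ _ => ?_)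
    let P := pullback q.left q.left
    let ζ := P.fromSpecResidueField z₀
    let M : Type u := P.residueField z₀
    obtain ⟨a, ha⟩ : ∃ a : CommRingCat.of L ⟶ CommRingCat.of M,
        Spec.map a = ζ ≫ pullback.fst q.left q.left ≫ s.left := Spec.map_surjective _
    obtain ⟨b, hb⟩ : ∃ b : CommRingCat.of L ⟶ CommRingCat.of M,
        Spec.map b = ζ ≫ pullback.snd q.left q.left ≫ s.left := Spec.map_surjective _
    letI : Algebra L M := a.hom.toAlgebra
    letI : Algebra K M := (a.hom.comp (algebraMap K L)).toAlgebra
    haveI : IsScalarTower K L M := IsScalarTower.of_algebraMap_eq fun _ => rfl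
    have hab : CommRingCat.ofHom (algebraMap K L) ≫ b = CommRingCat.ofHom (algebraMap K L) ≫ a := by
      apply Spec.map_injective
      rw [Spec.map_comp, Spec.map_comp, ha, hb, Category.assoc, Category.assoc, Category.assoc, Category.assoc]
      have hc : s.left ≫ (cover k K L).left = q.left ≫ z.left := sq'.w.symm
      erw [hc, ← pullback.condition_assoc]
    let bA : L →ₐ[K] M := { toRingHom := b.hom, commutes' := fun r => congr($(hab).hom r) }
    let σ : L ≃ₐ[K] L := Normal.algHomEquivAut K M L bA
    have hσ : ∀ r, a.hom (σ r) = b.hom r := fun r => by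
      have := (Normal.algHomEquivAut K M L).symm_apply_apply bA
      exact congr($this r)
    have hζ : (ζ ≫ pullback.fst q.left q.left) ≫ m σ = ζ := by
      apply pullback.hom_ext
      · rw [Category.assoc, hm, Category.comp_id]
      · rw [Category.assoc, hm']
        apply sq'.hom_ext
        · rw [Category.assoc, e, Category.assoc, pullback.condition, Category.assoc]
        · rw [Category.assoc, e', Category.assoc ζ (pullback.snd q.left q.left), ← hb, ← Category.assoc,
            Category.assoc ζ, ← ha, ← Spec.map_comp]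
          congr 1
          ext r
          exact hσ r
    refine TopologicalSpace.Opens.mem_iSup.2 ⟨σ, ?_⟩
    have h3 := congr($(hζ).base (IsLocalRing.closedPoint M))
    simp only [Scheme.Hom.comp_base, TopCat.hom_comp, ContinuousMap.comp_apply] at h3
    erw [Scheme.fromSpecResidueField_apply] at h3
    exact ⟨_, h3⟩
  refine ((pullback q.left q.left).openCoverOfIsOpenCover _ hcov).hom_ext _ _ fun σ => ?_
  show (m σ).opensRange.ι ≫ _ = (m σ).opensRange.ι ≫ _
  rw [← cancel_epi (m σ).isoOpensRange.hom, ← Category.assoc, ← Category.assoc _ (m σ).opensRange.ι,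
    Scheme.Hom.isoOpensRange_hom_ι, reassoc_of% (hm σ), reassoc_of% (hm' σ), hinv]

/-- A pulled back Galois cover is an epimorphism. -/
theorem epi_left (sq : IsPullback q s z (cover k K L)) : Epi q.left := by
  obtain ⟨_, _, _, _⟩ := isCover_of_pullback sq
  infer_instance

theorem hom_ext (sq : IsPullback q s z (cover k K L)) {W : Over (Spec (CommRingCat.of k))} {f g : Z ⟶ W}
    (h : q ≫ f = q ≫ g) : f = g := by
  have := epi_left sq
  exact Over.OverMorphism.ext ((cancel_epi q.left).1 (congrArg CommaMorphism.left h))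

/-- Invariant morphisms descend along a pulled back Galois cover. -/
theorem exists_desc (sq : IsPullback q s z (cover k K L)) {W : Over (Spec (CommRingCat.of k))} (h : Z' ⟶ W)
    (hinv : ∀ σ : L ≃ₐ[K] L, lam sq σ ≫ h = h) : ∃ g : Z ⟶ W, q ≫ g = h := by
  obtain ⟨_, _, _, _⟩ := isCover_of_pullback sq
  have key := comp_eq_of_invariant sq h.left fun σ => congrArg CommaMorphism.left (hinv σ)
  have w : ∀ {Y : Scheme.{u}} (g₁ g₂ : Y ⟶ Z'.left), g₁ ≫ q.left = g₂ ≫ q.left → g₁ ≫ h.left = g₂ ≫ h.left :=
    fun g₁ g₂ e => by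
      have := congrArg (pullback.lift g₁ g₂ e ≫ ·) key
      simpa using this
  refine ⟨Over.homMk (EffectiveEpi.desc q.left h.left w) ?_, Over.OverMorphism.ext (EffectiveEpi.fac q.left _ w)⟩
  rw [← cancel_epi q.left, ← Category.assoc, EffectiveEpi.fac, Over.w h, Over.w q]

end Groth.Agent.StkDesc10
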