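import Groth.Agent.StkDesc10.Hom
import Groth.Agent.StkDesc10.Affine

/-!
# Existence of the torsor of a descent datum
-/

set_option autoImplicit false
set_option backward.isDefEq.respectTransparency false
set_option backward.isDefEq.respectTransparency.types false
set_option linter.unusedSectionVars false

universe u

open CategoryTheory CategoryTheory.Limits MonoidalCategory CartesianMonoidalCategory MonObj GrpObj AlgebraicGeometry

namespace Groth.Agent.StkDesc10

open Groth.Agent.GrpSchLib Groth.Agent.QuotLib AlgSt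

variable {k : Type u} [Field k] {K L : Type u} [Field K] [Field L] [Algebra k K] [Algebra k L] [Algebra K L]
  [IsScalarTower k K L] [FiniteDimensional K L] [IsGalois K L]
variable {G X : Over (Spec (CommRingCat.of k))} [GrpObj G] {aX : AlgGrp.Action G X}
variable {z : (L ≃ₐ[K] L) → (SGA7.pt (K := k) L ⟶ G)}

/-- A pulled back product square. -/
theorem isPullback_of_left {A B C D : Over (Spec (CommRingCat.of k))} {f : A ⟶ B} {g : A ⟶ C} {h : B ⟶ D}
    {i : C ⟶ D} (sq : IsPullback f.left g.left h.left i.left) : IsPullback f g h i :=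
  IsPullback.of_map (Over.forget _) (Over.OverMorphism.ext sq.w) sq

theorem Phi_leftMul (σ : L ≃ₐ[K] L) :
    (G ◁ Phi z σ) ≫ (leftMul G (SGA7.pt (K := k) L)).act =
      (leftMul G (SGA7.pt (K := k) L)).act ≫ Phi z σ := by
  simp only [Phi, leftMul, comp_lift, comp_mul, lift_fst, lift_snd, lift_snd_assoc,
    whiskerLeft_fst, whiskerLeft_snd_assoc, Category.assoc, _root_.mul_assoc]

/-- The descended torsor, with its trivialisation. -/
theorem exists_quotient [IsAffineHom G.hom] (hz : IsCoc z) :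
    ∃ (P : Over (Spec (CommRingCat.of k))) (p : P ⟶ SGA7.pt (K := k) K) (f : G ⊗ SGA7.pt (K := k) L ⟶ P),
      (∀ σ, Phi z σ ≫ f = f) ∧ IsPullback f (snd G (SGA7.pt L)) p (cover k K L) := by
  have : IsAffine (G ⊗ SGA7.pt (K := k) L).left :=
    have : IsAffine (SGA7.pt (K := k) L).left := inferInstanceAs (IsAffine (Spec (CommRingCat.of L)))
    have : IsAffineHom (pullback.snd G.hom (SGA7.pt (K := k) L).hom) :=
      MorphismProperty.pullback_snd _ _ inferInstance
    isAffine_of_isAffineHom (pullback.snd G.hom (SGA7.pt (K := k) L).hom)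
  obtain ⟨P, f, p, hinv, hsq⟩ := exists_descent_affine (K := K) (L := L) (G ⊗ SGA7.pt (K := k) L).left
    (snd G (SGA7.pt L)).left (fun σ => (Phi z σ).left) (by rw [Phi_one hz]; rfl)
    (fun σ τ => by rw [← Phi_mul hz]; rfl)
    (fun σ => congrArg CommaMorphism.left (Phi_snd z σ))
  let P' : Over (Spec (CommRingCat.of k)) := Over.mk (p ≫ (SGA7.pt (K := k) K).hom)
  let p' : P' ⟶ SGA7.pt (K := k) K := Over.homMk p rfl
  let f' : G ⊗ SGA7.pt (K := k) L ⟶ P' := Over.homMk f (by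
    show f ≫ p ≫ _ = _
    rw [hsq.w_assoc]
    show _ ≫ (cover k K L).left ≫ _ = _
    rw [Over.w (cover k K L), Over.w (snd G (SGA7.pt L))])
  exact ⟨P', p', f', fun σ => Over.OverMorphism.ext (hinv σ), isPullback_of_left hsq⟩

variable {P : Over (Spec (CommRingCat.of k))} {p : P ⟶ SGA7.pt (K := k) K}
  {f : G ⊗ SGA7.pt (K := k) L ⟶ P}

theorem lam_quot (hinv : ∀ σ, Phi z σ ≫ f = f) (sq : IsPullback f (snd G (SGA7.pt L)) p (cover k K L))
    (σ : L ≃ₐ[K] L) : lam sq σ = Phi z σ :=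
  lam_eq sq σ _ (hinv σ) (Phi_snd z σ)

theorem sq_act (sq : IsPullback f (snd G (SGA7.pt L)) p (cover k K L)) :
    IsPullback (G ◁ f) (snd G (G ⊗ SGA7.pt L) ≫ snd G (SGA7.pt L)) (snd G P ≫ p) (cover k K L) :=
  (isPullback_whiskerLeft f).paste_vert sq

theorem exists_act (hinv : ∀ σ, Phi z σ ≫ f = f) (sq : IsPullback f (snd G (SGA7.pt L)) p (cover k K L)) :
    ∃ a : AlgGrp.Action G P, a.act ≫ p = snd G P ≫ p ∧
      (G ◁ f) ≫ a.act = (leftMul G (SGA7.pt (K := k) L)).act ≫ f := by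
  obtain ⟨a, ha⟩ := exists_desc (sq_act sq) ((leftMul G (SGA7.pt (K := k) L)).act ≫ f) fun σ => by
    rw [lam_eq (sq_act sq) σ (G ◁ Phi z σ)
      (by rw [← MonoidalCategory.whiskerLeft_comp, hinv])
      (by rw [whiskerLeft_snd_assoc, Phi_snd, Category.assoc]), reassoc_of% (Phi_leftMul (z := z) (G := G) σ), hinv]
  have hp : a ≫ p = snd G P ≫ p := hom_ext (sq_act sq) (by
    rw [reassoc_of% ha, sq.w, whiskerLeft_snd_assoc, sq.w, leftMul, lift_snd_assoc, Category.assoc])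
  have key : ∀ {Y : Over (Spec (CommRingCat.of k))} (g : Y ⟶ G) (t : Y ⟶ G ⊗ SGA7.pt (K := k) L),
      lift g (t ≫ f) ≫ a = lift g t ≫ (leftMul G (SGA7.pt (K := k) L)).act ≫ f := fun g t => by
    rw [← ha, lift_whiskerLeft_assoc]
  refine ⟨⟨a, ?_, ?_⟩, hp, ha⟩
  · rw [← cancel_epi (λ_ P).inv, Iso.inv_hom_id]
    refine hom_ext sq ?_
    have e : (λ_ P).inv ≫ (η[G] ▷ P) = lift 1 (𝟙 P) := by
      apply CartesianMonoidalCategory.hom_ext
      · simp [MonObj.one_eq_one]
      · simp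
    rw [reassoc_of% e, Category.comp_id, ← Category.assoc, comp_lift, MonObj.comp_one, Category.comp_id]
    have := key (1 : G ⊗ SGA7.pt (K := k) L ⟶ G) (𝟙 _)
    rw [Category.id_comp] at this
    rw [this, ← Category.assoc, act_one, Category.id_comp]
  · refine hom_ext ((isPullback_whiskerLeft (G := G ⊗ G) f).paste_vert sq) ?_
    let α : (G ⊗ G) ⊗ (G ⊗ SGA7.pt (K := k) L) ⟶ G := fst _ _ ≫ fst G G
    let β : (G ⊗ G) ⊗ (G ⊗ SGA7.pt (K := k) L) ⟶ G := fst _ _ ≫ snd G G
    have e1 : ((G ⊗ G) ◁ f) ≫ (μ[G] ▷ P) = lift (α * β) (snd _ _ ≫ f) := by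
      apply CartesianMonoidalCategory.hom_ext
      · simp only [α, β, Category.assoc, whiskerRight_fst, lift_fst]
        rw [whiskerLeft_fst_assoc, Hom.mul_def, ← comp_lift_assoc, lift_fst_snd, Category.id_comp]
      · simp
    have e2 : ((G ⊗ G) ◁ f) ≫ (α_ G G P).hom = lift α (lift β (snd _ _ ≫ f)) := by
      apply CartesianMonoidalCategory.hom_ext
      · simp [α]
      · apply CartesianMonoidalCategory.hom_ext <;> simp [β]
    rw [reassoc_of% e1, reassoc_of% e2, lift_whiskerLeft_assoc, key, key, ← Category.assoc (lift β _), key,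
      ← Category.assoc, ← Category.assoc, act_mul]

theorem isPullback_cart (hinv : ∀ σ, Phi z σ ≫ f = f)
    (sq : IsPullback f (snd G (SGA7.pt L)) p (cover k K L)) (a : AlgGrp.Action G P)
    (hp : a.act ≫ p = snd G P ≫ p)
    (hsq : ∀ {Y : Over (Spec (CommRingCat.of k))} (u : Y ⟶ G ⊗ SGA7.pt (K := k) L) (γ : Y ⟶ G),
      lift γ (u ≫ f) ≫ a.act = lift (γ * (u ≫ fst _ _)) (u ≫ snd _ _) ≫ f) :
    IsPullback a.act (snd G P) p p := by
  have main : ∀ {Z : Over (Spec (CommRingCat.of k))} (b₁ b₂ : Z ⟶ P), b₁ ≫ p = b₂ ≫ p →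
      ∃! γ : Z ⟶ G, lift γ b₂ ≫ a.act = b₁ := fun {Z} b₁ b₂ hb => by
    let q := pullback.fst (b₁ ≫ p) (cover k K L)
    let s := pullback.snd (b₁ ≫ p) (cover k K L)
    have sqZ : IsPullback q s (b₁ ≫ p) (cover k K L) := IsPullback.of_hasPullback _ _
    let u₁ := sq.lift (q ≫ b₁) s (by rw [Category.assoc, sqZ.w])
    let u₂ := sq.lift (q ≫ b₂) s (by rw [Category.assoc, ← hb, sqZ.w])
    have h1 : u₁ ≫ f = q ≫ b₁ := sq.lift_fst _ _ _
    have h2 : u₂ ≫ f = q ≫ b₂ := sq.lift_fst _ _ _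
    have s1 : u₁ ≫ snd _ _ = s := sq.lift_snd _ _ _
    have s2 : u₂ ≫ snd _ _ = s := sq.lift_snd _ _ _
    have hl : ∀ (u : _ ⟶ G ⊗ SGA7.pt (K := k) L) (b : Z ⟶ P), u ≫ f = q ≫ b → u ≫ snd _ _ = s →
        ∀ σ, lam sqZ σ ≫ u ≫ fst _ _ = (u ≫ fst _ _) * (s ≫ z σ) := fun u b hu hs σ => by
      have e : lam sqZ σ ≫ u = u ≫ Phi z σ := sq.hom_ext
        (by rw [Category.assoc, Category.assoc, hinv, hu, ← Category.assoc, lam_fst])
        (by rw [Category.assoc, Category.assoc, Phi_snd, hs, lam_snd, ← Category.assoc, hs])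
      rw [reassoc_of% e, Phi, lift_fst, comp_mul, ← Category.assoc, hs]
    obtain ⟨γ, hγ⟩ := exists_desc sqZ ((u₁ ≫ fst _ _) * (u₂ ≫ fst _ _)⁻¹) fun σ => by
      rw [comp_mul, GrpObj.comp_inv, hl u₁ b₁ h1 s1 σ, hl u₂ b₂ h2 s2 σ, _root_.mul_inv_rev]
      group
    refine ⟨γ, hom_ext sqZ ?_, fun γ' hγ' => hom_ext sqZ ?_⟩
    · rw [← Category.assoc, comp_lift, hγ, ← h2, hsq, inv_mul_cancel_right, s2, ← s1, ← comp_lift,
        lift_fst_snd, Category.comp_id, h1]
    · rw [hγ, eq_mul_inv_iff_mul_eq]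
      have h3 := congrArg (q ≫ ·) hγ'
      simp only [← Category.assoc, comp_lift] at h3
      rw [← h2, hsq, ← h1, s2] at h3
      have h4 : lift ((q ≫ γ') * (u₂ ≫ fst _ _)) s = u₁ :=
        sq.hom_ext h3 (by rw [lift_snd, s1])
      rw [← h4, lift_fst]
  refine IsPullback.of_isLimit' ⟨hp⟩ (Limits.PullbackCone.IsLimit.mk _
    (fun c => lift (main c.fst c.snd c.condition).exists.choose c.snd)
    (fun c => (main c.fst c.snd c.condition).exists.choose_spec)
    (fun c => lift_snd _ _)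
    (fun c m hm hm' => ?_))
  have h5 : m = lift (m ≫ fst G P) c.snd := by
    apply CartesianMonoidalCategory.hom_ext
    · simp
    · simpa using hm'
  rw [h5]
  congr 1
  refine (main c.fst c.snd c.condition).unique ?_ (main c.fst c.snd c.condition).exists.choose_spec
  rw [← h5]
  exact hm

theorem isLocallyTrivial (x : SGA7.pt (K := k) L ⟶ P) (hxp : x ≫ p = cover k K L) :
    NonAbH1.IsLocallyTrivialFor Scheme.etalePrecoverage (Over.mk p.left : Over (SGA7.pt (K := k) K).left) := by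
  refine ⟨Presieve.singleton (cover k K L).left,
    (Scheme.singleton_mem_precoverage_iff _ _).2 ⟨(cover k K L).left.surjective, inferInstance⟩, ?_⟩
  rintro S' g ⟨⟩
  exact ⟨x.left, congrArg CommaMorphism.left hxp⟩

/-- The descended torsor as an object of the quotient stack, with its trivialisation. -/
theorem exists_object [IsAffineHom G.hom] (hz : IsCoc z) (x₀ : SGA7.pt (K := k) L ⟶ X)
    (hx₀ : IsTwFixed z aX x₀) :
    ∃ (A : (QuotObj.forget Scheme.etalePrecoverage G aX).Fiber (SGA7.pt (K := k) K))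
      (x : SGA7.pt (K := k) L ⟶ A.1.P),
      x ≫ str A = cover k K L ∧ IsTwFixed z A.1.act x ∧ x ≫ A.1.φ = x₀ := by
  obtain ⟨P, p, f, hinv, sq⟩ := exists_quotient (G := G) hz
  obtain ⟨a, hp, ha⟩ := exists_act hinv sq
  let x : SGA7.pt (K := k) L ⟶ P := QuotLib.sec G (SGA7.pt L) ≫ f
  have hxp : x ≫ p = cover k K L := by
    simp only [x, Category.assoc, sq.w, QuotLib.sec, lift_snd_assoc, Category.id_comp]
  have hψ : psi a x = f := by
    rw [psi, MonoidalCategory.whiskerLeft_comp_assoc, ha, ← Category.assoc]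
    suffices (G ◁ QuotLib.sec G (SGA7.pt (K := k) L)) ≫ (leftMul G (SGA7.pt (K := k) L)).act = 𝟙 _ by
      rw [this, Category.id_comp]
    simp [leftMul, QuotLib.sec, comp_lift, comp_mul, MonObj.comp_one]
  have hzx : IsTwFixed z a x := fun σ => by
    have h1 := hinv σ
    rw [← hψ, psi_eq, ← Category.assoc, comp_lift, Phi, lift_fst, lift_snd_assoc] at h1
    have h2 := congrArg (QuotLib.sec G (SGA7.pt L) ≫ ·) h1
    simp only [← Category.assoc, comp_lift, comp_mul, QuotLib.sec, lift_fst, lift_snd, Category.id_comp,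
      MonObj.comp_one, _root_.one_mul] at h2
    rwa [act_one] at h2
  obtain ⟨φ, hφ⟩ := exists_desc sq (psi aX x₀) fun σ => by rw [lam_quot hinv sq σ, Phi_psi hx₀ σ]
  have heqv : a.act ≫ φ = (G ◁ φ) ≫ aX.act := hom_ext (sq_act sq) (by
    rw [reassoc_of% ha, hφ, ← MonoidalCategory.whiskerLeft_comp_assoc, hφ, act_psi])
  have hsq' : ∀ {Y : Over (Spec (CommRingCat.of k))} (u : Y ⟶ G ⊗ SGA7.pt (K := k) L) (γ : Y ⟶ G),
      lift γ (u ≫ f) ≫ a.act = lift (γ * (u ≫ fst _ _)) (u ≫ snd _ _) ≫ f := fun u γ => by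
    rw [← lift_whiskerLeft_assoc, ha, ← Category.assoc]
    simp only [leftMul, comp_lift, comp_mul, lift_fst, lift_snd_assoc]
  refine ⟨⟨⟨SGA7.pt (K := k) K, P, a, p, isPullback_cart hinv sq a hp hsq', isLocallyTrivial x hxp, φ, heqv⟩, rfl⟩,
    x, ?_, hzx, ?_⟩
  · show x ≫ p ≫ 𝟙 _ = _
    rw [Category.comp_id, hxp]
  · show x ≫ φ = x₀
    rw [Category.assoc, hφ, unit_psi]

end Groth.Agent.StkDesc10
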