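import Groth.Agent.StkDesc10.Cover
import Groth.Agent.StkPts10.Orbit

/-!
# Torsors trivialised over a Galois cover of fields
-/

set_option autoImplicit false
set_option backward.isDefEq.respectTransparency false
set_option backward.isDefEq.respectTransparency.types false
set_option linter.unusedSectionVars false

universe u

open CategoryTheory CategoryTheory.Limits MonoidalCategory CartesianMonoidalCategory MonObj GrpObj AlgebraicGeometry

namespace Groth.Agent.StkDesc10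

open Groth.Agent.GrpSchLib Groth.Agent.QuotLib AlgSt

variable {k : Type u} [Field k] {K L : Type u} [Field K] [Field L] [Algebra k K] [Algebra k L] [Algebra K L]
  [IsScalarTower k K L]
variable {G X : Over (Spec (CommRingCat.of k))} [GrpObj G] {aX : AlgGrp.Action G X}
variable {P₀ : Precoverage Scheme.{u}}

/-- The cocycle identity on points with values in `Spec L`. -/
def IsCoc (z : (L ≃ₐ[K] L) → (SGA7.pt (K := k) L ⟶ G)) : Prop :=
  ∀ σ τ, z (σ * τ) = z σ * autL k σ ≫ z τ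

theorem IsCoc.map_one {z : (L ≃ₐ[K] L) → (SGA7.pt (K := k) L ⟶ G)} (h : IsCoc z) : z 1 = 1 := by
  have h1 := h 1 1
  rw [_root_.mul_one, autL_one, Category.id_comp] at h1
  exact left_eq_mul.mp h1

/-- A point fixed by the action of the Galois group twisted by `z`. -/
def IsTwFixed (z : (L ≃ₐ[K] L) → (SGA7.pt (K := k) L ⟶ G)) {P : Over (Spec (CommRingCat.of k))}
    (a : AlgGrp.Action G P) (x : SGA7.pt (K := k) L ⟶ P) : Prop :=
  ∀ σ, lift (z σ) (autL k σ ≫ x) ≫ a.act = x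

theorem IsTwFixed.comp {z : (L ≃ₐ[K] L) → (SGA7.pt (K := k) L ⟶ G)} {P Q : Over (Spec (CommRingCat.of k))}
    {a : AlgGrp.Action G P} {b : AlgGrp.Action G Q} {x : SGA7.pt (K := k) L ⟶ P} (h : IsTwFixed z a x)
    (f : P ⟶ Q) (hf : a.act ≫ f = (G ◁ f) ≫ b.act) : IsTwFixed z b (x ≫ f) := fun σ => by
  conv_rhs => rw [← h σ, Category.assoc, hf, lift_whiskerLeft_assoc, Category.assoc]

/-- The twisted automorphism of the trivial torsor. -/
noncomputable def Phi (z : (L ≃ₐ[K] L) → (SGA7.pt (K := k) L ⟶ G)) (σ : L ≃ₐ[K] L) :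
    G ⊗ SGA7.pt (K := k) L ⟶ G ⊗ SGA7.pt (K := k) L :=
  lift (fst G (SGA7.pt L) * (snd G (SGA7.pt L) ≫ z σ)) (snd G (SGA7.pt L) ≫ autL k σ)

theorem Phi_snd (z : (L ≃ₐ[K] L) → (SGA7.pt (K := k) L ⟶ G)) (σ : L ≃ₐ[K] L) :
    Phi z σ ≫ snd G (SGA7.pt L) = snd G (SGA7.pt L) ≫ autL k σ := lift_snd _ _

theorem Phi_mul {z : (L ≃ₐ[K] L) → (SGA7.pt (K := k) L ⟶ G)} (h : IsCoc z) (σ τ : L ≃ₐ[K] L) :
    Phi z σ ≫ Phi z τ = Phi z (σ * τ) := by
  rw [Phi, Phi, Phi, comp_lift, comp_mul, lift_fst, lift_snd_assoc, lift_snd_assoc, h σ τ, comp_mul,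
    Category.assoc, autL_mul, Category.assoc, _root_.mul_assoc]

theorem Phi_one {z : (L ≃ₐ[K] L) → (SGA7.pt (K := k) L ⟶ G)} (h : IsCoc z) : Phi z 1 = 𝟙 _ := by
  rw [Phi, h.map_one, MonObj.comp_one, _root_.mul_one, autL_one, Category.comp_id, lift_fst_snd]

/-- The trivialisation attached to a point of a space with action. -/
noncomputable def psi {P : Over (Spec (CommRingCat.of k))} (a : AlgGrp.Action G P) (x : SGA7.pt (K := k) L ⟶ P) :
    G ⊗ SGA7.pt (K := k) L ⟶ P :=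
  (G ◁ x) ≫ a.act

theorem psi_eq {P : Over (Spec (CommRingCat.of k))} (a : AlgGrp.Action G P) (x : SGA7.pt (K := k) L ⟶ P) :
    psi a x = lift (fst G (SGA7.pt L)) (snd G (SGA7.pt L) ≫ x) ≫ a.act := by
  rw [psi]; congr 1

theorem unit_psi {P : Over (Spec (CommRingCat.of k))} (a : AlgGrp.Action G P) (x : SGA7.pt (K := k) L ⟶ P) :
    QuotLib.sec G (SGA7.pt L) ≫ psi a x = x := by
  rw [psi, QuotLib.sec, lift_whiskerLeft_assoc, Category.id_comp, act_one]

theorem Phi_psi {z : (L ≃ₐ[K] L) → (SGA7.pt (K := k) L ⟶ G)} {P : Over (Spec (CommRingCat.of k))}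
    {a : AlgGrp.Action G P} {x : SGA7.pt (K := k) L ⟶ P} (hx : IsTwFixed z a x) (σ : L ≃ₐ[K] L) :
    Phi z σ ≫ psi a x = psi a x := by
  rw [psi_eq, ← Category.assoc, comp_lift, Phi, lift_fst, lift_snd_assoc, Category.assoc]
  conv_rhs => rw [← hx σ]
  rw [← Category.assoc (snd G _) (lift (z σ) _) a.act, comp_lift, act_mul]

theorem psi_comp {P Q : Over (Spec (CommRingCat.of k))} {a : AlgGrp.Action G P} {b : AlgGrp.Action G Q}
    (x : SGA7.pt (K := k) L ⟶ P) (f : P ⟶ Q) (hf : a.act ≫ f = (G ◁ f) ≫ b.act) :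
    psi a x ≫ f = psi b (x ≫ f) := by
  rw [psi, psi, Category.assoc, hf, MonoidalCategory.whiskerLeft_comp_assoc]

theorem act_psi {P : Over (Spec (CommRingCat.of k))} (a : AlgGrp.Action G P) (x : SGA7.pt (K := k) L ⟶ P) :
    (G ◁ psi a x) ≫ a.act = (leftMul G (SGA7.pt L)).act ≫ psi a x := by
  rw [psi_eq a x, ← Category.assoc (leftMul G _).act, comp_lift]
  simp only [leftMul, lift_fst, lift_snd_assoc, Category.assoc]
  rw [← act_mul]
  congr 1
  apply CartesianMonoidalCategory.hom_ext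
  · simp
  · simp only [lift_snd, whiskerLeft_snd, ← Category.assoc, comp_lift]

/-- An object over `Spec K` with its base identified. -/
noncomputable abbrev str (A : (QuotObj.forget P₀ G aX).Fiber (SGA7.pt (K := k) K)) :
    A.1.P ⟶ SGA7.pt (K := k) K :=
  A.1.π ≫ eqToHom A.2

/-- A point over `Spec L` of a torsor over `Spec K` trivialises it. -/
theorem isPullback_psi (A : (QuotObj.forget P₀ G aX).Fiber (SGA7.pt (K := k) K))
    (x : SGA7.pt (K := k) L ⟶ A.1.P) (hx : x ≫ str A = cover k K L) :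
    IsPullback (psi A.1.act x) (snd G (SGA7.pt L)) (str A) (cover k K L) := by
  have h' : IsPullback (psi A.1.act x) (snd G (SGA7.pt L)) A.1.π (x ≫ A.1.π) :=
    (isPullback_whiskerLeft x).paste_horiz A.1.cart
  refine h'.of_iso (Iso.refl _) (Iso.refl _) (Iso.refl _) (eqToIso A.2) (by simp) (by simp) (by simp [str]) ?_
  rw [← hx]
  simp [str]

end Groth.Agent.StkDesc10
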