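import Groth.Agent.StkDesc10.Level
import Groth.Agent.StkDesc10.Torsor
import Mathlib.FieldTheory.Finite.Basic

/-!
# Cocycles from a single value at Frobenius
-/

set_option autoImplicit false
set_option backward.isDefEq.respectTransparency false
set_option backward.isDefEq.respectTransparency.types false
set_option linter.unusedSectionVars false

universe u

open CategoryTheory CategoryTheory.Limits MonoidalCategory CartesianMonoidalCategory MonObj GrpObj AlgebraicGeometry

namespace Groth.Agent.StkDesc10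

variable {k : Type u} [Field k] {K : Type u} [Field K] [Algebra k K] [Fintype K]

section Field

variable (K)
variable (M : Type u) [Field M] [Algebra K M] [Algebra.IsAlgebraic K M]

/-- The Frobenius over `K`. -/
noncomputable abbrev frob : M ≃ₐ[K] M := FiniteField.frobeniusAlgEquivOfAlgebraic K M

theorem frob_apply (x : M) : frob K M x = x ^ Fintype.card K := rfl

theorem frob_pow_apply (n : ℕ) (x : M) : (frob K M ^ n) x = x ^ Fintype.card K ^ n := by
  rw [AlgEquiv.coe_pow, FiniteField.coe_frobeniusAlgEquivOfAlgebraic_iterate]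

end Field

variable {M : Type u} [Field M] [Algebra k M] [Algebra K M] [IsScalarTower k K M] [Algebra.IsAlgebraic K M]
variable {G : Over (Spec (CommRingCat.of k))} [GrpObj G]

/-- The partial norms along Frobenius. -/
noncomputable def nrm (g : SGA7.pt (K := k) M ⟶ G) : ℕ → (SGA7.pt (K := k) M ⟶ G)
  | 0 => 1
  | i + 1 => g * autL k (frob K M) ≫ nrm g i

theorem nrm_add (g : SGA7.pt (K := k) M ⟶ G) (i j : ℕ) :
    nrm (K := K) g (i + j) = nrm (K := K) g i * autL k (frob K M ^ i) ≫ nrm (K := K) g j := by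
  induction i with
  | zero => rw [Nat.zero_add, pow_zero, autL_one, Category.id_comp, nrm, _root_.one_mul]
  | succ i ih =>
    rw [Nat.succ_add, nrm, ih, nrm, MonObj.comp_mul, ← _root_.mul_assoc, pow_succ', autL_mul, Category.assoc]

theorem nrm_one (g : SGA7.pt (K := k) M ⟶ G) : nrm (K := K) g 1 = g := by
  rw [nrm, nrm, MonObj.comp_one, _root_.mul_one]

theorem nrm_mul_of_period (g : SGA7.pt (K := k) M ⟶ G) {n : ℕ} (hn : frob K M ^ n = 1) (m : ℕ) :
    nrm (K := K) g (n * m) = nrm (K := K) g n ^ m := by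
  induction m with
  | zero => rw [Nat.mul_zero, pow_zero, nrm]
  | succ m ih => rw [Nat.mul_succ, Nat.add_comm, nrm_add, hn, autL_one, Category.id_comp, ih, pow_succ']

/-- A value at Frobenius of norm one gives a cocycle. -/
theorem exists_cocycle [Finite M] (g : SGA7.pt (K := k) M ⟶ G) (hg : nrm (K := K) g (Module.finrank K M) = 1) :
    ∃ z : (M ≃ₐ[K] M) → (SGA7.pt (K := k) M ⟶ G), IsCoc z ∧ z (frob K M) = g := by
  let n := Module.finrank K M
  have hord : orderOf (frob K M) = n := FiniteField.orderOf_frobeniusAlgEquivOfAlgebraic K M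
  have hF : frob K M ^ n = 1 := by rw [← hord]; exact pow_orderOf_eq_one _
  have hn : 0 < n := Module.finrank_pos
  have hmod : ∀ i, nrm (K := K) g i = nrm (K := K) g (i % n) := fun i => by
    conv_lhs => rw [← Nat.mod_add_div i n]
    rw [nrm_add, nrm_mul_of_period g hF, hg, one_pow, MonObj.comp_one, _root_.mul_one]
  let e := Equiv.ofBijective _ (FiniteField.bijective_frobeniusAlgEquivOfAlgebraic_pow K M)
  let z : (M ≃ₐ[K] M) → (SGA7.pt (K := k) M ⟶ G) := fun σ => nrm (K := K) g (e.symm σ).1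
  have hz : ∀ i, z (frob K M ^ i) = nrm (K := K) g i := fun i => by
    have h1 : e ⟨i % n, Nat.mod_lt _ hn⟩ = frob K M ^ i := by
      show frob K M ^ (i % n) = _
      rw [← hord, pow_mod_orderOf]
    show nrm (K := K) g (e.symm (frob K M ^ i)).1 = _
    rw [← h1, Equiv.symm_apply_apply]
    exact (hmod i).symm
  refine ⟨z, fun σ τ => ?_, by rw [← pow_one (frob K M), hz, nrm_one]⟩
  obtain ⟨a, rfl⟩ : ∃ a : ℕ, frob K M ^ a = σ := ⟨(e.symm σ).1, e.apply_symm_apply σ⟩
  obtain ⟨b, rfl⟩ : ∃ b : ℕ, frob K M ^ b = τ := ⟨(e.symm τ).1, e.apply_symm_apply τ⟩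
  rw [← pow_add, hz, hz, hz, nrm_add]

/-- Invariance under Frobenius propagates to all twisted actions. -/
theorem isTwFixed_of_frob [Finite M] {z : (M ≃ₐ[K] M) → (SGA7.pt (K := k) M ⟶ G)} (hz : IsCoc z)
    {P : Over (Spec (CommRingCat.of k))} (a : AlgGrp.Action G P) (x : SGA7.pt (K := k) M ⟶ P)
    (h : lift (z (frob K M)) (autL k (frob K M) ≫ x) ≫ a.act = x) : IsTwFixed z a x := by
  intro σ
  obtain ⟨i, rfl⟩ : ∃ i : ℕ, frob K M ^ i = σ := by
    obtain ⟨i, hi⟩ := (FiniteField.bijective_frobeniusAlgEquivOfAlgebraic_pow K M).2 σ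
    exact ⟨i.1, hi⟩
  induction i with
  | zero => rw [pow_zero, hz.map_one, autL_one, Category.id_comp, GrpSchLib.act_one]
  | succ i ih =>
    conv_rhs => rw [← ih, ← h, ← Category.assoc (autL k (frob K M ^ i)), comp_lift, GrpSchLib.act_mul]
    rw [pow_succ, hz, autL_mul, Category.assoc]

section Levels

variable {Ω : Type u} [Field Ω] [Algebra k Ω] [Algebra K Ω] [IsScalarTower k K Ω] [IsAlgClosure K Ω]

variable (K Ω) in
/-- The level of degree `n`. -/
noncomputable def lvl (n : ℕ) : IntermediateField K Ω :=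
  IntermediateField.fixedField (Subgroup.zpowers (frob K Ω ^ n))

theorem mem_lvl {n : ℕ} {x : Ω} : x ∈ lvl K Ω n ↔ x ^ Fintype.card K ^ n = x := by
  rw [lvl, IntermediateField.mem_fixedField_iff]
  refine ⟨fun h => by rw [← frob_pow_apply K Ω]; exact h _ (Subgroup.mem_zpowers _), fun h σ hσ => ?_⟩
  obtain ⟨i, rfl⟩ := Subgroup.mem_zpowers_iff.mp hσ
  have h' : frob K Ω ^ n ∈ MulAction.stabilizer (Ω ≃ₐ[K] Ω) x :=
    MulAction.mem_stabilizer_iff.mpr (by rw [AlgEquiv.smul_def, frob_pow_apply]; exact h)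
  exact MulAction.mem_stabilizer_iff.mp (Subgroup.zpow_mem _ h' i)

theorem coe_lvl {n : ℕ} (hn : 0 < n) : (lvl K Ω n : Set Ω) =
    (Polynomial.X ^ Fintype.card K ^ n - Polynomial.X : Polynomial K).rootSet Ω := by
  ext x
  rw [SetLike.mem_coe, mem_lvl, Polynomial.mem_rootSet_of_ne]
  · simp [sub_eq_zero]
  · exact FiniteField.X_pow_card_pow_sub_X_ne_zero _ hn.ne' Fintype.one_lt_card

theorem finite_lvl {n : ℕ} (hn : 0 < n) : Finite (lvl K Ω n) :=
  Set.finite_coe_iff.mpr (coe_lvl (K := K) (Ω := Ω) hn ▸ Polynomial.rootSet_finite _ _)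

theorem finrank_lvl {n : ℕ} (hn : 0 < n) : Module.finrank K (lvl K Ω n) = n := by
  have := finite_lvl (K := K) (Ω := Ω) hn
  have : IsAlgClosed Ω := IsAlgClosure.isAlgClosed K
  obtain ⟨p, hp⟩ := CharP.exists K
  have := hp
  obtain ⟨⟨e, he⟩, hpp, hcard⟩ := FiniteField.card K p
  have h1 : Nat.card (lvl K Ω n) = Fintype.card K ^ n := by
    refine (Nat.card_congr (Equiv.setCongr (coe_lvl (K := K) (Ω := Ω) hn))).trans ?_
    rw [Nat.card_eq_fintype_card, Polynomial.card_rootSet_eq_natDegree,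
      FiniteField.X_pow_card_pow_sub_X_natDegree_eq _ hn.ne' Fintype.one_lt_card]
    · exact galois_poly_separable p _ (dvd_pow (hcard ▸ dvd_pow_self p he.ne') hn.ne')
    · exact IsAlgClosed.splits _
  have h2 := Module.natCard_eq_pow_finrank (K := K) (V := lvl K Ω n)
  rw [h1, Nat.card_eq_fintype_card (α := K)] at h2
  exact Nat.pow_right_injective Fintype.one_lt_card h2.symm

theorem le_lvl {L : IntermediateField K Ω} [FiniteDimensional K L] {n : ℕ} (h : Module.finrank K L ∣ n) :
    L ≤ lvl K Ω n := fun x hx => by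
  obtain ⟨m, rfl⟩ := h
  have : Finite L := Module.finite_of_finite K
  rw [mem_lvl, pow_mul]
  have hx' : x ^ Fintype.card K ^ Module.finrank K L = x := by
    have := Fintype.ofFinite L
    have h1 := FiniteField.pow_card (⟨x, hx⟩ : L)
    rw [Module.card_eq_pow_finrank (K := K) (V := L)] at h1
    exact congrArg Subtype.val h1
  induction m with
  | zero => simp
  | succ m ih => rw [pow_succ, pow_mul, ih, hx']

theorem autL_frob_cover (L : IntermediateField K Ω) [Algebra.IsAlgebraic K L] :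
    autL k (frob K Ω) ≫ cover k L Ω = cover k L Ω ≫ autL k (frob K L) := by
  refine Over.OverMorphism.ext ?_
  show Spec.map _ ≫ Spec.map _ = Spec.map _ ≫ Spec.map _
  rw [← Spec.map_comp, ← Spec.map_comp]
  congr 1

theorem cover_nrm (L : IntermediateField K Ω) [Algebra.IsAlgebraic K L] (g : SGA7.pt (K := k) L ⟶ G) (i : ℕ) :
    cover k L Ω ≫ nrm (K := K) g i = nrm (K := K) (cover k L Ω ≫ g) i := by
  induction i with
  | zero => rw [nrm, nrm, MonObj.comp_one]
  | succ i ih => rw [nrm, nrm, MonObj.comp_mul, ← ih, reassoc_of% (autL_frob_cover (k := k) L)]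

theorem cancel_cover {L : IntermediateField K Ω} {W : Over (Spec (CommRingCat.of k))}
    {f g : SGA7.pt (K := k) L ⟶ W} (h : cover k L Ω ≫ f = cover k L Ω ≫ g) : f = g := by
  have := surjective_cover (k := k) (K := L) (L := Ω)
  have := flat_cover (k := k) (K := L) (L := Ω)
  have := quasiCompact_cover (k := k) (K := L) (L := Ω)
  exact Over.OverMorphism.ext ((cancel_epi (cover k L Ω).left).1 (congrArg CommaMorphism.left h))

/-- Finitely many data over `Ω`, together with a cocycle, live at one level. -/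
theorem exists_good_level [LocallyOfFiniteType G.hom] [QuasiCompact G.hom] (g : SGA7.pt (K := k) Ω ⟶ G)
    (L₀ : IntermediateField K Ω) [FiniteDimensional K L₀] :
    ∃ (L : IntermediateField K Ω) (_ : FiniteDimensional K L) (_ : IsGalois K L) (_ : Finite L)
      (g₀ : SGA7.pt (K := k) L ⟶ G) (z : (L ≃ₐ[K] L) → (SGA7.pt (K := k) L ⟶ G)),
      L₀ ≤ L ∧ cover k L Ω ≫ g₀ = g ∧ IsCoc z ∧ z (frob K L) = g₀ := by
  have : Algebra.IsAlgebraic K Ω := IsAlgClosure.isAlgebraic
  obtain ⟨Lg, _, hLg⟩ := exists_level (k := k) (K := K) g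
  let L₁ := L₀ ⊔ Lg
  have : FiniteDimensional K L₁ := IntermediateField.finiteDimensional_sup L₀ Lg
  let n := Module.finrank K L₁
  have hn : 0 < n := Module.finrank_pos
  have := finite_lvl (K := K) (Ω := Ω) hn
  obtain ⟨g₁, hg₁⟩ := hLg (lvl K Ω n) (le_sup_right.trans (le_lvl (dvd_refl n)))
  have hF : frob K (lvl K Ω n) ^ n = 1 := by
    have h1 : orderOf (frob K (lvl K Ω n)) = n :=
      (FiniteField.orderOf_frobeniusAlgEquivOfAlgebraic K _).trans (finrank_lvl hn)
    have h2 := pow_orderOf_eq_one (frob K (lvl K Ω n))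
    rwa [h1] at h2
  have := finite_points (W := G) (lvl K Ω n)
  let m := orderOf (nrm (K := K) g₁ n)
  have hm : 0 < m := orderOf_pos _
  have hnm : 0 < n * m := Nat.mul_pos hn hm
  have := finite_lvl (K := K) (Ω := Ω) hnm
  have hle : L₁ ≤ lvl K Ω (n * m) := le_lvl (dvd_mul_right n m)
  obtain ⟨g₀, hg₀⟩ := hLg (lvl K Ω (n * m)) (le_sup_right.trans hle)
  have : FiniteDimensional K (lvl K Ω (n * m)) := Module.Finite.of_finite
  obtain ⟨z, hz, hzg⟩ := exists_cocycle (K := K) g₀ (by
    rw [finrank_lvl hnm]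
    refine cancel_cover ?_
    rw [cover_nrm, hg₀, ← hg₁, ← cover_nrm, nrm_mul_of_period g₁ hF, pow_orderOf_eq_one]
    exact (MonObj.comp_one _).trans (MonObj.comp_one _).symm)
  exact ⟨lvl K Ω (n * m), this, inferInstance, inferInstance, g₀, z, le_sup_left.trans hle, hg₀, hz, hzg⟩

end Levels

end Groth.Agent.StkDesc10
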