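import Groth.Agent.StkDesc10.Frob
import Groth.Prelude.Def_Frob

/-!
# The `q`-Frobenius endomorphism of a scheme over a field with `q` elements
-/

set_option autoImplicit false
set_option backward.isDefEq.respectTransparency false
set_option backward.isDefEq.respectTransparency.types false
set_option linter.unusedSectionVars false

universe u

open CategoryTheory CategoryTheory.Limits MonoidalCategory CartesianMonoidalCategory AlgebraicGeometry

namespace Groth.Agent.StkDesc10

variable (p : ℕ) [Fact p.Prime]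

/-- The iterated absolute Frobenius. -/
noncomputable def frobIter (X : Scheme.{u}) [FrobSch.IsCharP X p] : ℕ → (X ⟶ X)
  | 0 => 𝟙 X
  | n + 1 => frobIter X n ≫ FrobSch.frob X p

theorem frobIter_comp {X Y : Scheme.{u}} [FrobSch.IsCharP X p] [FrobSch.IsCharP Y p] (f : X ⟶ Y) (n : ℕ) :
    frobIter p X n ≫ f = f ≫ frobIter p Y n := by
  induction n with
  | zero => rw [frobIter, frobIter, Category.id_comp, Category.comp_id]
  | succ n ih => rw [frobIter, frobIter, Category.assoc, FrobSch.frob_comp, ← Category.assoc, ih, Category.assoc]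

theorem frobIter_appTop (X : Scheme.{u}) [FrobSch.IsCharP X p] (n : ℕ) (s : Γ(X, ⊤)) :
    (frobIter p X n).appTop s = s ^ p ^ n := by
  induction n generalizing s with
  | zero => rw [frobIter, Scheme.Hom.id_appTop, pow_zero, pow_one]; rfl
  | succ n ih =>
    rw [frobIter, Scheme.Hom.comp_appTop, CommRingCat.comp_apply, FrobSch.frob_appTop]
    exact (map_pow _ _ _).trans (by rw [ih, ← pow_mul, pow_succ])

/-- On an affine scheme the iterated Frobenius is the spectrum of the power map. -/
theorem frobIter_spec {R : Type u} [CommRing R] [FrobSch.IsCharP (Spec (CommRingCat.of R)) p] (n : ℕ)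
    (φ : R →+* R) (hφ : ∀ r, φ r = r ^ p ^ n) :
    frobIter p (Spec (CommRingCat.of R)) n = Spec.map (CommRingCat.ofHom φ) := by
  refine ext_of_isAffine (CommRingCat.hom_ext (RingHom.ext fun s => ?_))
  rw [frobIter_appTop]
  obtain ⟨r, rfl⟩ := (Scheme.ΓSpecIso (CommRingCat.of R)).commRingCatIsoToRingEquiv.symm.surjective s
  have h := congr($(Scheme.ΓSpecIso_inv_naturality (CommRingCat.ofHom φ)) r)
  refine Eq.trans ?_ h
  show ((Scheme.ΓSpecIso (CommRingCat.of R)).inv r) ^ p ^ n = (Scheme.ΓSpecIso (CommRingCat.of R)).inv (φ r)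
  rw [hφ, map_pow]

section Over

variable {k : Type u} [Field k] [Fintype k] [CharP k p]

instance isCharP_over (W : Over (Spec (CommRingCat.of k))) : FrobSch.IsCharP W.left p :=
  FrobSch.IsCharP.of_hom W.hom p

/-- The exponent of the field. -/
noncomputable def expo : ℕ := (FiniteField.card k p).choose

theorem card_eq_pow : Fintype.card k = p ^ expo (k := k) p :=
  (FiniteField.card k p).choose_spec.2

theorem expo_pos : 0 < expo (k := k) p := (FiniteField.card k p).choose.2

theorem frobIter_base : frobIter p (Spec (CommRingCat.of k)) (expo (k := k) p) = 𝟙 _ := by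
  rw [frobIter_spec p _ (RingHom.id k) fun r => by
    rw [← card_eq_pow, FiniteField.pow_card]; rfl]
  exact Spec.map_id _

/-- The Frobenius endomorphism over the ground field. -/
noncomputable def Fr (W : Over (Spec (CommRingCat.of k))) : W ⟶ W :=
  Over.homMk (frobIter p W.left (expo (k := k) p)) (by
    rw [frobIter_comp, frobIter_base, Category.comp_id])

theorem Fr_comp {W W' : Over (Spec (CommRingCat.of k))} (f : W ⟶ W') : Fr p W ≫ f = f ≫ Fr p W' :=
  Over.OverMorphism.ext (frobIter_comp p f.left _)

theorem Fr_spec {R : Type u} [CommRing R] (W : Spec (CommRingCat.of R) ⟶ Spec (CommRingCat.of k))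
    (φ : R →+* R) (hφ : ∀ r, φ r = r ^ Fintype.card k) :
    (Fr p (Over.mk W)).left = Spec.map (CommRingCat.ofHom φ) :=
  haveI : FrobSch.IsCharP (Spec (CommRingCat.of R)) p := FrobSch.IsCharP.of_hom W p
  frobIter_spec p _ φ fun r => by rw [hφ, card_eq_pow]

/-- On points over an algebraic closure the Galois Frobenius is composition with the Frobenius endomorphism. -/
theorem autL_frob_comp {Ω : Type u} [Field Ω] [Algebra k Ω] [Algebra.IsAlgebraic k Ω]
    {W : Over (Spec (CommRingCat.of k))} (x : SGA7.pt (K := k) Ω ⟶ W) :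
    autL k (frob k Ω) ≫ x = x ≫ Fr p W := by
  rw [← Fr_comp]
  congr 1
  exact Over.OverMorphism.ext (Fr_spec p _ _ fun r => frob_apply k Ω r).symm

/-- Frobenius of a square-zero thickening factors through the closed subscheme. -/
theorem exists_factor_thickening {R : Type u} [CommRing R] (I : Ideal R) (hI : I ^ 2 = ⊥)
    (w : Spec (CommRingCat.of R) ⟶ Spec (CommRingCat.of k)) :
    ∃ j : Over.mk w ⟶ Over.mk (Spec.map (CommRingCat.ofHom (Ideal.Quotient.mk I)) ≫ w),
      (Over.homMk (Spec.map (CommRingCat.ofHom (Ideal.Quotient.mk I))) rfl :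
        Over.mk (Spec.map (CommRingCat.ofHom (Ideal.Quotient.mk I)) ≫ w) ⟶ Over.mk w) ≫ j = Fr p _ ∧
      j ≫ (Over.homMk (Spec.map (CommRingCat.ofHom (Ideal.Quotient.mk I))) rfl :
        Over.mk (Spec.map (CommRingCat.ofHom (Ideal.Quotient.mk I)) ≫ w) ⟶ Over.mk w) = Fr p _ := by
  obtain ⟨ψ, hψ⟩ := Spec.map_surjective w
  let n := expo (k := k) p
  have hp0 : (p : R) = 0 := by
    rw [← map_natCast ψ.hom p, CharP.cast_eq_zero k p, map_zero]
  let F : R →+* R :=
    { toFun := fun r => r ^ Fintype.card k
      map_one' := one_pow _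
      map_mul' := fun a b => mul_pow a b _
      map_zero' := zero_pow Fintype.card_ne_zero
      map_add' := fun a b => by
        rcases subsingleton_or_nontrivial R with hR | hR
        · exact Subsingleton.elim _ _
        · have : CharP R p := (CharP.charP_iff_prime_eq_zero Fact.out).2 hp0
          rw [card_eq_pow p]
          exact add_pow_char_pow a b _ _ }
  have hker : ∀ a ∈ I, F a = 0 := fun a ha => by
    have h2 : 2 ≤ Fintype.card k := Fintype.one_lt_card
    show a ^ Fintype.card k = 0
    rw [← Nat.add_sub_cancel' h2, pow_add]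
    have : a ^ 2 ∈ I ^ 2 := Ideal.pow_mem_pow ha 2
    rw [hI, Ideal.mem_bot] at this
    rw [this, zero_mul]
  let jR : R ⧸ I →+* R := Ideal.Quotient.lift I F hker
  have hj1 : ∀ r, jR (Ideal.Quotient.mk I r) = r ^ Fintype.card k := fun r => rfl
  have hj2 : ∀ r, Ideal.Quotient.mk I (jR r) = r ^ Fintype.card k := fun r => by
    obtain ⟨r, rfl⟩ := Ideal.Quotient.mk_surjective r
    rw [hj1, map_pow]
  refine ⟨Over.homMk (Spec.map (CommRingCat.ofHom jR)) ?_, Over.OverMorphism.ext ?_, Over.OverMorphism.ext ?_⟩
  · show Spec.map _ ≫ Spec.map _ ≫ w = w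
    rw [← Spec.map_comp_assoc, ← hψ, ← Spec.map_comp]
    congr 1
    ext c
    show F (ψ c) = ψ c
    show ψ c ^ Fintype.card k = ψ c
    rw [← map_pow]
    exact congrArg _ (FiniteField.pow_card c)
  · show Spec.map _ ≫ Spec.map _ = (Fr p (Over.mk (Spec.map (CommRingCat.ofHom (Ideal.Quotient.mk I)) ≫ w))).left
    rw [← Spec.map_comp, ← CommRingCat.ofHom_comp]
    exact (Fr_spec p _ _ hj2).symm
  · show Spec.map _ ≫ Spec.map _ = (Fr p (Over.mk w)).left
    rw [← Spec.map_comp, ← CommRingCat.ofHom_comp]
    exact (Fr_spec p _ _ hj1).symm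

end Over

end Groth.Agent.StkDesc10
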