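import Groth.Agent.StkDesc10.Exists
import Groth.Agent.StkDesc10.Frob

/-!
# Objects over a finite field as data over an algebraic closure
-/

set_option autoImplicit false
set_option backward.isDefEq.respectTransparency false
set_option backward.isDefEq.respectTransparency.types false
set_option linter.unusedSectionVars false

universe u

open CategoryTheory CategoryTheory.Limits MonoidalCategory CartesianMonoidalCategory MonObj GrpObj AlgebraicGeometry

namespace Groth.Agent.StkDesc10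

open Groth.Agent.GrpSchLib Groth.Agent.QuotLib AlgSt

variable {k : Type u} [Field k] {K : Type u} [Field K] [Algebra k K]
variable {G X : Over (Spec (CommRingCat.of k))} [GrpObj G] {aX : AlgGrp.Action G X}
variable {Ω : Type u} [Field Ω] [Algebra k Ω] [Algebra K Ω] [IsScalarTower k K Ω] [IsAlgClosure K Ω]

set_option quotPrecheck false in
local notation "Fib" => (QuotObj.forget Scheme.etalePrecoverage G aX).Fiber (SGA7.pt (K := k) K)

theorem cover_comp (L : IntermediateField K Ω) :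
    cover k L Ω ≫ cover k K L = cover k K Ω := by
  refine Over.OverMorphism.ext ?_
  show Spec.map _ ≫ Spec.map _ = Spec.map _
  rw [← Spec.map_comp, ← CommRingCat.ofHom_comp, ← IsScalarTower.algebraMap_eq]

theorem exists_lift_act (A : Fib) {Z : Over (Spec (CommRingCat.of k))} (b₁ b₂ : Z ⟶ A.1.P)
    (h : b₁ ≫ str A = b₂ ≫ str A) : ∃ γ : Z ⟶ G, lift γ b₂ ≫ A.1.act.act = b₁ := by
  have h' : b₁ ≫ A.1.π = b₂ ≫ A.1.π := by
    rwa [str, ← Category.assoc, ← Category.assoc, cancel_mono] at h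
  refine ⟨A.1.cart.lift b₁ b₂ h' ≫ fst G A.1.P, ?_⟩
  have e : lift (A.1.cart.lift b₁ b₂ h' ≫ fst G A.1.P) b₂ = A.1.cart.lift b₁ b₂ h' := by
    apply CartesianMonoidalCategory.hom_ext
    · rw [lift_fst]
    · rw [lift_snd, A.1.cart.lift_snd]
  rw [e]
  exact A.1.cart.lift_fst _ _ _

theorem act_cancel (A : Fib) {Z : Over (Spec (CommRingCat.of k))} {γ γ' : Z ⟶ G} {b : Z ⟶ A.1.P}
    (h : lift γ b ≫ A.1.act.act = lift γ' b ≫ A.1.act.act) : γ = γ' := by
  have e : lift γ b = lift γ' b := A.1.cart.hom_ext h (by rw [lift_snd, lift_snd])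
  simpa using congrArg (· ≫ fst G A.1.P) e

theorem act_str (A : Fib) : A.1.act.act ≫ str A = snd G A.1.P ≫ str A := by
  rw [str, ← Category.assoc, A.1.cart.w, Category.assoc]

variable [Fintype K]

theorem frob_cover : autL k (frob K Ω) ≫ cover k K Ω = cover k K Ω := autL_cover _

/-- Every object has points over finite levels. -/
theorem exists_point_level [LocallyOfFiniteType (SGA7.pt (K := k) K).hom] (A : Fib) :
    ∃ L₀ : IntermediateField K Ω, FiniteDimensional K L₀ ∧ ∀ L : IntermediateField K Ω, L₀ ≤ L →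
      ∃ x : SGA7.pt (K := k) L ⟶ A.1.P, x ≫ str A = cover k K L := by
  have : IsAlgClosed Ω := IsAlgClosure.isAlgClosed K
  have : Algebra.IsAlgebraic K Ω := IsAlgClosure.isAlgebraic
  obtain ⟨R, hR, hsec⟩ := A.1.loc
  let e : A.1.base ≅ SGA7.pt (K := k) K := eqToIso A.2
  obtain ⟨_, _, hf, w, -⟩ := hR.1 (e.inv.left (IsLocalRing.closedPoint K))
  obtain ⟨hf⟩ := hf
  rename_i Y f
  obtain ⟨s, hs⟩ := hsec f hf
  have : Etale f := hR.2 hf
  let W : Over (Spec (CommRingCat.of k)) := Over.mk (f ≫ A.1.base.hom)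
  let f' : W ⟶ SGA7.pt (K := k) K := Over.homMk f rfl ≫ e.hom
  have : Etale e.hom.left := by
    have : IsIso e.hom.left := ((Over.forget _).mapIso e).isIso_hom
    infer_instance
  have : Etale f'.left := inferInstanceAs (Etale (f ≫ e.hom.left))
  have : LocallyOfFiniteType W.hom := by
    rw [← Over.w f']
    infer_instance
  let Q := pullback f'.left (cover k K Ω).left
  have : Surjective f'.left :=
    ⟨fun p => ⟨w, Subsingleton.elim (α := PrimeSpectrum K) _ _⟩⟩
  have : Surjective (pullback.snd f'.left (cover k K Ω).left) := MorphismProperty.pullback_snd _ _ inferInstance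
  obtain ⟨q, -⟩ := (pullback.snd f'.left (cover k K Ω).left).surjective (IsLocalRing.closedPoint Ω)
  let Qo : Over (Spec (CommRingCat.of k)) :=
    Over.mk (pullback.snd f'.left (cover k K Ω).left ≫ (SGA7.pt (K := k) Ω).hom)
  let h₀ : Qo ⟶ SGA7.pt (K := k) Ω := Over.homMk (pullback.snd f'.left (cover k K Ω).left) rfl
  have : Etale h₀.left := MorphismProperty.pullback_snd _ _ inferInstance
  obtain ⟨σ, hσ, -⟩ := AlgSpPts.exists_section_of_etale h₀ q
  let p₁ : Qo ⟶ W := Over.homMk (pullback.fst f'.left (cover k K Ω).left) (by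
    show _ ≫ W.hom = _ ≫ (SGA7.pt (K := k) Ω).hom
    rw [← Over.w f', pullback.condition_assoc, Over.w (cover k K Ω)])
  have hp : p₁ ≫ f' = h₀ ≫ cover k K Ω := Over.OverMorphism.ext pullback.condition
  obtain ⟨L₀, hL₀, hlev⟩ := exists_level (K := K) (σ ≫ p₁)
  refine ⟨L₀, hL₀, fun L hL => ?_⟩
  obtain ⟨y, hy⟩ := hlev L hL
  have hs' : s ≫ A.1.π.left = f := hs
  let S₀ : W ⟶ A.1.P := Over.homMk s (by
    show s ≫ A.1.P.hom = f ≫ A.1.base.hom
    rw [← Over.w A.1.π, reassoc_of% hs'])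
  have hS₀ : S₀ ≫ str A = f' := Over.OverMorphism.ext (by
    show s ≫ A.1.π.left ≫ (eqToHom A.2).left = f ≫ (eqToHom A.2).left
    rw [reassoc_of% hs'])
  refine ⟨y ≫ S₀, cancel_cover ?_⟩
  rw [Category.assoc, hS₀, reassoc_of% hy, hp, reassoc_of% hσ, cover_comp]

variable [LocallyOfFiniteType G.hom] [LocallyOfFiniteType (SGA7.pt (K := k) K).hom]

/-- Every object has a point over the algebraic closure. -/
theorem exists_triv (A : Fib) : ∃ t : SGA7.pt (K := k) Ω ⟶ A.1.P, t ≫ str A = cover k K Ω := by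
  obtain ⟨L₀, _, h⟩ := exists_point_level (Ω := Ω) A
  obtain ⟨x, hx⟩ := h L₀ le_rfl
  exact ⟨cover k L₀ Ω ≫ x, by rw [Category.assoc, hx, cover_comp]⟩

/-- Every point over the algebraic closure lives at a finite level. -/
theorem exists_triv_level (A : Fib) (t : SGA7.pt (K := k) Ω ⟶ A.1.P) (ht : t ≫ str A = cover k K Ω) :
    ∃ L₀ : IntermediateField K Ω, FiniteDimensional K L₀ ∧ ∀ L : IntermediateField K Ω, L₀ ≤ L →
      ∃ x : SGA7.pt (K := k) L ⟶ A.1.P, cover k L Ω ≫ x = t ∧ x ≫ str A = cover k K L := by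
  have : Algebra.IsAlgebraic K Ω := IsAlgClosure.isAlgebraic
  obtain ⟨L₁, _, h₁⟩ := exists_point_level (Ω := Ω) A
  obtain ⟨x₁, hx₁⟩ := h₁ L₁ le_rfl
  obtain ⟨γ, hγ⟩ := exists_lift_act A t (cover k L₁ Ω ≫ x₁) (by rw [ht, Category.assoc, hx₁, cover_comp])
  obtain ⟨L₂, _, h₂⟩ := exists_level (K := K) γ
  refine ⟨L₁ ⊔ L₂, IntermediateField.finiteDimensional_sup L₁ L₂, fun L hL => ?_⟩
  obtain ⟨γ₀, hγ₀⟩ := h₂ L (le_sup_right.trans hL)
  obtain ⟨x, hx⟩ := h₁ L (le_sup_left.trans hL)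
  obtain ⟨δ, hδ⟩ := exists_lift_act A t (cover k L Ω ≫ x) (by rw [ht, Category.assoc, hx, cover_comp])
  obtain ⟨L₃, _, h₃⟩ := exists_level (K := K) δ
  let incl : SGA7.pt (K := k) L ⟶ SGA7.pt (K := k) L₁ :=
    Over.homMk (Spec.map (CommRingCat.ofHom (IntermediateField.inclusion (le_sup_left.trans hL)).toRingHom)) (by
      show Spec.map _ ≫ Spec.map _ = Spec.map _
      rw [← Spec.map_comp]
      congr 1)
  have hincl : cover k L Ω ≫ incl = cover k L₁ Ω := by
    refine Over.OverMorphism.ext ?_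
    show Spec.map _ ≫ Spec.map _ = Spec.map _
    rw [← Spec.map_comp]
    congr 1
  refine ⟨lift γ₀ (incl ≫ x₁) ≫ A.1.act.act, ?_, ?_⟩
  · rw [← Category.assoc, comp_lift, hγ₀, reassoc_of% hincl, hγ]
  · rw [Category.assoc, act_str, lift_snd_assoc]
    refine cancel_cover ?_
    rw [Category.assoc, hx₁, reassoc_of% hincl, cover_comp, cover_comp]

/-- The value at Frobenius of a trivialisation. -/
theorem exists_frob_coeff (A : Fib) (t : SGA7.pt (K := k) Ω ⟶ A.1.P) (ht : t ≫ str A = cover k K Ω) :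
    ∃ g : SGA7.pt (K := k) Ω ⟶ G, lift g (autL k (frob K Ω) ≫ t) ≫ A.1.act.act = t :=
  exists_lift_act A t _ (by rw [Category.assoc, ht, frob_cover])

variable [QuasiCompact G.hom]

/-- Data over the algebraic closure with the same invariants are isomorphic. -/
theorem exists_iso_geom (A B : Fib) (t : SGA7.pt (K := k) Ω ⟶ A.1.P) (u : SGA7.pt (K := k) Ω ⟶ B.1.P)
    (ht : t ≫ str A = cover k K Ω) (hu : u ≫ str B = cover k K Ω) (g : SGA7.pt (K := k) Ω ⟶ G)
    (hgt : lift g (autL k (frob K Ω) ≫ t) ≫ A.1.act.act = t)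
    (hgu : lift g (autL k (frob K Ω) ≫ u) ≫ B.1.act.act = u) (hφ : t ≫ A.1.φ = u ≫ B.1.φ) :
    ∃ e : A ≅ B, t ≫ e.hom.1.top = u := by
  obtain ⟨LA, _, hA⟩ := exists_triv_level A t ht
  obtain ⟨LB, _, hB⟩ := exists_triv_level B u hu
  have : FiniteDimensional K (LA ⊔ LB : IntermediateField K Ω) := IntermediateField.finiteDimensional_sup LA LB
  obtain ⟨L, _, _, _, g₀, z, hL, hg₀, hz, hzg⟩ := exists_good_level g (LA ⊔ LB)
  obtain ⟨x, hxt, hx⟩ := hA L (le_sup_left.trans hL)
  obtain ⟨y, hyu, hy⟩ := hB L (le_sup_right.trans hL)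
  obtain ⟨e, he⟩ := exists_iso hx hy
    (isTwFixed_of_frob hz _ x (cancel_cover (by
      rw [hzg, ← Category.assoc, comp_lift, hg₀, ← Category.assoc (cover k L Ω) (autL k _), ← autL_frob_cover,
        Category.assoc, hxt, hgt])))
    (isTwFixed_of_frob hz _ y (cancel_cover (by
      rw [hzg, ← Category.assoc, comp_lift, hg₀, ← Category.assoc (cover k L Ω) (autL k _), ← autL_frob_cover,
        Category.assoc, hyu, hgu])))
    (cancel_cover (by rw [reassoc_of% hxt, reassoc_of% hyu, hφ]))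
  exact ⟨e, by rw [← hxt, Category.assoc, he, hyu]⟩

/-- Every pair is realised. -/
theorem exists_object_geom [IsAffineHom G.hom] [LocallyOfFiniteType X.hom] (g : SGA7.pt (K := k) Ω ⟶ G)
    (x : SGA7.pt (K := k) Ω ⟶ X) (hx : lift g (autL k (frob K Ω) ≫ x) ≫ aX.act = x) :
    ∃ (A : Fib) (t : SGA7.pt (K := k) Ω ⟶ A.1.P), t ≫ str A = cover k K Ω ∧
      lift g (autL k (frob K Ω) ≫ t) ≫ A.1.act.act = t ∧ t ≫ A.1.φ = x := by
  have : Algebra.IsAlgebraic K Ω := IsAlgClosure.isAlgebraic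
  obtain ⟨L₁, _, h₁⟩ := exists_level (K := K) x
  obtain ⟨L, _, _, _, g₀, z, hL, hg₀, hz, hzg⟩ := exists_good_level g L₁
  obtain ⟨x₀, hx₀⟩ := h₁ L hL
  obtain ⟨A, y, hy, hzy, hφ⟩ := exists_object hz x₀ (isTwFixed_of_frob hz aX x₀ (cancel_cover (by
    rw [hzg, ← Category.assoc, comp_lift, hg₀, ← Category.assoc (cover k L Ω) (autL k _), ← autL_frob_cover,
      Category.assoc, hx₀, hx])))
  refine ⟨A, cover k L Ω ≫ y, by rw [Category.assoc, hy, cover_comp], ?_, by rw [Category.assoc, hφ, hx₀]⟩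
  have h := hzy (frob K L)
  rw [hzg] at h
  conv_rhs => rw [← h]
  rw [← Category.assoc (cover k L Ω) (lift g₀ _), comp_lift, hg₀, ← Category.assoc (autL k _) (cover k L Ω),
    autL_frob_cover, Category.assoc]

/-- A morphism is determined by the image of one geometric point. -/
theorem hom_ext_geom (A B : Fib) (t : SGA7.pt (K := k) Ω ⟶ A.1.P) (ht : t ≫ str A = cover k K Ω) {f f' : A ⟶ B}
    (h : t ≫ f.1.top = t ≫ f'.1.top) : f = f' := by
  obtain ⟨L₀, _, hlev⟩ := exists_triv_level A t ht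
  let n := Module.finrank K L₀
  have := finite_lvl (K := K) (Ω := Ω) (n := n) Module.finrank_pos
  have : FiniteDimensional K (lvl K Ω n) := Module.Finite.of_finite
  obtain ⟨x, hxt, hx⟩ := hlev (lvl K Ω n) (le_lvl (dvd_refl n))
  exact hom_ext_triv hx (cancel_cover (by rw [reassoc_of% hxt, reassoc_of% hxt, h]))

end Groth.Agent.StkDesc10
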