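import Groth.Agent.StkDesc10.Torsor

/-!
# Torsors with the same descent data are isomorphic
-/

set_option autoImplicit false
set_option backward.isDefEq.respectTransparency false
set_option backward.isDefEq.respectTransparency.types false
set_option linter.unusedSectionVars false

universe u

open CategoryTheory CategoryTheory.Limits MonoidalCategory CartesianMonoidalCategory MonObj GrpObj AlgebraicGeometry

namespace Groth.Agent.StkDesc10

open Groth.Agent.GrpSchLib Groth.Agent.QuotLib AlgSt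

variable {k : Type u} [Field k] {K L : Type u} [Field K] [Field L] [Algebra k K] [Algebra k L] [Algebra K L]
  [IsScalarTower k K L] [FiniteDimensional K L] [IsGalois K L]
variable {G X : Over (Spec (CommRingCat.of k))} [GrpObj G] {aX : AlgGrp.Action G X}
variable {P₀ : Precoverage Scheme.{u}} [P₀.HasIsos]
variable {z : (L ≃ₐ[K] L) → (SGA7.pt (K := k) L ⟶ G)}
variable {A B : (QuotObj.forget P₀ G aX).Fiber (SGA7.pt (K := k) K)}
variable {x : SGA7.pt (K := k) L ⟶ A.1.P} {y : SGA7.pt (K := k) L ⟶ B.1.P}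

theorem lam_psi (hx : x ≫ str A = cover k K L) (hz : IsTwFixed z A.1.act x) (σ : L ≃ₐ[K] L) :
    lam (isPullback_psi A x hx) σ = Phi z σ :=
  lam_eq _ σ _ (Phi_psi hz σ) (Phi_snd z σ)

/-- Descend along the trivialisation. -/
theorem exists_desc_psi (hx : x ≫ str A = cover k K L) (hz : IsTwFixed z A.1.act x)
    {W : Over (Spec (CommRingCat.of k))} (h : G ⊗ SGA7.pt (K := k) L ⟶ W)
    (hh : ∀ σ, Phi z σ ≫ h = h) : ∃ g : A.1.P ⟶ W, psi A.1.act x ≫ g = h :=
  exists_desc (isPullback_psi A x hx) h fun σ => by rw [lam_psi hx hz σ]; exact hh σ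

theorem psi_cancel (hx : x ≫ str A = cover k K L) {W : Over (Spec (CommRingCat.of k))} {f g : A.1.P ⟶ W}
    (h : psi A.1.act x ≫ f = psi A.1.act x ≫ g) : f = g :=
  hom_ext (isPullback_psi A x hx) h

/-- Trivialisations after acting by the group. -/
theorem whisker_psi_cancel (hx : x ≫ str A = cover k K L) {W : Over (Spec (CommRingCat.of k))}
    {f g : G ⊗ A.1.P ⟶ W} (h : (G ◁ psi A.1.act x) ≫ f = (G ◁ psi A.1.act x) ≫ g) : f = g :=
  hom_ext ((isPullback_whiskerLeft (psi A.1.act x)).paste_vert (isPullback_psi A x hx)) h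

/-- Objects with trivialisations having the same cocycle and the same point are isomorphic, compatibly. -/
theorem exists_iso (hx : x ≫ str A = cover k K L) (hy : y ≫ str B = cover k K L)
    (hzx : IsTwFixed z A.1.act x) (hzy : IsTwFixed z B.1.act y) (hφ : x ≫ A.1.φ = y ≫ B.1.φ) :
    ∃ e : A ≅ B, x ≫ e.hom.1.top = y := by
  obtain ⟨t, ht⟩ := exists_desc_psi hx hzx (psi B.1.act y) (Phi_psi hzy)
  obtain ⟨t', ht'⟩ := exists_desc_psi hy hzy (psi A.1.act x) (Phi_psi hzx)
  have htt' : t ≫ t' = 𝟙 _ := psi_cancel hx (by rw [reassoc_of% ht, ht', Category.comp_id])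
  have ht't : t' ≫ t = 𝟙 _ := psi_cancel hy (by rw [reassoc_of% ht', ht, Category.comp_id])
  have : IsIso t := ⟨t', htt', ht't⟩
  have hstr : t ≫ str B = str A := psi_cancel hx (by
    rw [reassoc_of% ht, (isPullback_psi B y hy).w, (isPullback_psi A x hx).w])
  have heqv : A.1.act.act ≫ t = (G ◁ t) ≫ B.1.act.act := whisker_psi_cancel hx (by
    rw [reassoc_of% (act_psi A.1.act x), ht, ← MonoidalCategory.whiskerLeft_comp_assoc, ht, act_psi])
  have hwφ : t ≫ B.1.φ = A.1.φ := psi_cancel hx (by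
    rw [reassoc_of% ht, psi_comp x A.1.φ A.1.eqv, psi_comp y B.1.φ B.1.eqv, hφ])
  let f : A.1 ⟶ B.1 :=
    { base := eqToHom A.2 ≫ eqToHom B.2.symm
      top := t
      eqv := heqv
      cart := IsPullback.of_horiz_isIso ⟨by
        have := congrArg (· ≫ eqToHom B.2.symm) hstr
        simpa [str] using this⟩
      wφ := hwφ }
  have : IsIso f.base := by
    show IsIso (eqToHom A.2 ≫ eqToHom B.2.symm)
    infer_instance
  obtain ⟨e, he⟩ := StkPts10.exists_iso_of_base f
  have h1 : e.hom.base = eqToHom A.2 ≫ eqToHom B.2.symm := congrArg QuotObj.Hom.base he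
  have h2 : e.inv.base = eqToHom B.2 ≫ eqToHom A.2.symm := by
    have : IsIso e.hom.base := by rw [h1]; infer_instance
    rw [← cancel_epi e.hom.base, ← QuotObj.comp_base, e.hom_inv_id, h1]
    simp
  have : Functor.IsHomLift (QuotObj.forget P₀ G aX) (𝟙 (SGA7.pt (K := k) K)) e.hom :=
    IsHomLift.of_fac' (QuotObj.forget P₀ G aX) _ e.hom A.2 B.2 (by simpa [QuotObj.forget] using h1)
  have : Functor.IsHomLift (QuotObj.forget P₀ G aX) (𝟙 (SGA7.pt (K := k) K)) e.inv :=
    IsHomLift.of_fac' (QuotObj.forget P₀ G aX) _ e.inv B.2 A.2 (by simpa [QuotObj.forget] using h2)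
  refine ⟨⟨⟨e.hom, inferInstance⟩, ⟨e.inv, inferInstance⟩, Functor.Fiber.hom_ext e.hom_inv_id,
    Functor.Fiber.hom_ext e.inv_hom_id⟩, ?_⟩
  show x ≫ e.hom.top = y
  rw [he]
  show x ≫ t = y
  have := congrArg (QuotLib.sec G (SGA7.pt L) ≫ ·) ht
  simpa only [← Category.assoc, unit_psi] using this

theorem hom_fiber_str (f : A ⟶ B) : f.1.top ≫ str B = str A := by
  have : Functor.IsHomLift (QuotObj.forget P₀ G aX) (𝟙 (SGA7.pt (K := k) K)) f.1 := f.2
  have hb : f.1.base = eqToHom A.2 ≫ 𝟙 _ ≫ eqToHom B.2.symm :=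
    IsHomLift.fac' (QuotObj.forget P₀ G aX) (𝟙 (SGA7.pt (K := k) K)) f.1
  rw [str, str, ← Category.assoc, f.1.cart.w, hb]
  simp

/-- A morphism over the identity is determined by the image of one trivialisation. -/
theorem hom_ext_triv (hx : x ≫ str A = cover k K L) {f g : A ⟶ B} (h : x ≫ f.1.top = x ≫ g.1.top) : f = g := by
  refine Functor.Fiber.hom_ext (QuotObj.hom_ext ?_ ?_)
  · have hf : Functor.IsHomLift (QuotObj.forget P₀ G aX) (𝟙 (SGA7.pt (K := k) K)) f.1 := f.2
    have hg : Functor.IsHomLift (QuotObj.forget P₀ G aX) (𝟙 (SGA7.pt (K := k) K)) g.1 := g.2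
    exact (IsHomLift.fac' (QuotObj.forget P₀ G aX) (𝟙 (SGA7.pt (K := k) K)) f.1).trans
      (IsHomLift.fac' (QuotObj.forget P₀ G aX) (𝟙 (SGA7.pt (K := k) K)) g.1).symm
  · refine psi_cancel hx ?_
    show psi A.1.act x ≫ f.1.top = psi A.1.act x ≫ g.1.top
    rw [psi_comp x _ f.1.eqv, psi_comp x _ g.1.eqv, h]

end Groth.Agent.StkDesc10
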