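import Groth.Agent.StkDesc10.Cover
import Mathlib.FieldTheory.Finite.GaloisField
import Mathlib.FieldTheory.IsAlgClosed.Basic
import Mathlib.AlgebraicGeometry.Morphisms.FiniteType
import Mathlib.AlgebraicGeometry.Morphisms.QuasiCompact

/-!
# Finite levels of the algebraic closure of a finite field
-/

set_option autoImplicit false
set_option backward.isDefEq.respectTransparency false
set_option backward.isDefEq.respectTransparency.types false
set_option linter.unusedSectionVars false

universe u

open CategoryTheory CategoryTheory.Limits MonoidalCategory CartesianMonoidalCategory MonObj AlgebraicGeometry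

namespace Groth.Agent.StkDesc10

variable {k : Type u} [Field k]

section Points

variable {W : Over (Spec (CommRingCat.of k))}

/-- A point with values in a field lands in an affine chart with finitely many generators. -/
theorem exists_chart [LocallyOfFiniteType W.hom] {M : Type u} [Field M] [Algebra k M]
    (y : SGA7.pt (K := k) M ⟶ W) :
    ∃ (U : W.left.Opens) (_ : IsAffineOpen U) (_ : y.left (IsLocalRing.closedPoint M) ∈ U), True := by
  obtain ⟨_, ⟨U, hU, rfl⟩, hy, -⟩ := W.left.isBasis_affineOpens.exists_subset_of_mem_open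
    (Set.mem_univ (y.left (IsLocalRing.closedPoint M))) isOpen_univ
  exact ⟨U, hU, hy, trivial⟩

/-- An affine chart of a scheme locally of finite type is the spectrum of an algebra of finite type. -/
theorem exists_chart_alg [LocallyOfFiniteType W.hom] {U : W.left.Opens} (hU : IsAffineOpen U) :
    ∃ (R : Type u) (_ : CommRing R) (_ : Algebra k R) (_ : Algebra.FiniteType k R)
      (j : Spec (CommRingCat.of R) ⟶ W.left), IsOpenImmersion j ∧ Set.range j = U ∧
      j ≫ W.hom = Spec.map (CommRingCat.ofHom (algebraMap k R)) := by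
  obtain ⟨ψ, hψ⟩ := Spec.map_surjective (hU.fromSpec ≫ W.hom)
  have hft : LocallyOfFiniteType (Spec.map ψ) := by rw [hψ]; infer_instance
  let _ : Algebra k Γ(W.left, U) := ψ.hom.toAlgebra
  refine ⟨Γ(W.left, U), inferInstance, inferInstance, ?_, hU.fromSpec, inferInstance, hU.range_fromSpec, hψ.symm⟩
  exact RingHom.finiteType_algebraMap.mp ((HasRingHomProperty.Spec_iff (P := @LocallyOfFiniteType)).mp hft)

/-- A point landing in a chart is given by an algebra homomorphism. -/
theorem exists_algHom {R : Type u} [CommRing R] [Algebra k R] (j : Spec (CommRingCat.of R) ⟶ W.left)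
    [IsOpenImmersion j] (hj : j ≫ W.hom = Spec.map (CommRingCat.ofHom (algebraMap k R)))
    {M : Type u} [Field M] [Algebra k M] (y : SGA7.pt (K := k) M ⟶ W)
    (hy : y.left (IsLocalRing.closedPoint M) ∈ Set.range j) :
    ∃ φ : R →ₐ[k] M, y.left = Spec.map (CommRingCat.ofHom φ.toRingHom) ≫ j := by
  have hr : Set.range y.left ⊆ Set.range j := by
    rintro _ ⟨x, rfl⟩
    have : x = IsLocalRing.closedPoint M := Subsingleton.elim (α := PrimeSpectrum M) _ _
    exact this ▸ hy
  obtain ⟨ψ, hψ⟩ := Spec.map_surjective (IsOpenImmersion.lift j y.left hr)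
  have hc : CommRingCat.ofHom (algebraMap k R) ≫ ψ = CommRingCat.ofHom (algebraMap k M) := by
    apply Spec.map_injective
    rw [Spec.map_comp, hψ, ← hj, IsOpenImmersion.lift_fac_assoc]
    exact Over.w y
  exact ⟨{ ψ.hom with commutes' := fun r => congr($(hc).hom r) },
    ((congrArg (· ≫ j) hψ).trans (IsOpenImmersion.lift_fac _ _ _)).symm⟩

/-- A quasi-compact scheme of finite type has finitely many points with values in a finite field. -/
theorem finite_points [LocallyOfFiniteType W.hom] [QuasiCompact W.hom] (M : Type u) [Field M] [Algebra k M]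
    [Finite M] : Finite (SGA7.pt (K := k) M ⟶ W) := by
  have : CompactSpace W.left := QuasiCompact.compactSpace_of_compactSpace W.hom
  obtain ⟨s, hs, hcov⟩ := (isCompact_iff_finite_and_eq_biUnion_affineOpens (X := W.left) (U := ⊤)).mp
    isCompact_univ
  have hU : ∀ U : s, Finite {y : SGA7.pt (K := k) M ⟶ W // y.left (IsLocalRing.closedPoint M) ∈ U.1.1} := by
    intro U
    obtain ⟨R, _, _, _, j, _, hr, hj⟩ := exists_chart_alg (W := W) U.1.2
    obtain ⟨t, ht⟩ := (inferInstance : Algebra.FiniteType k R).out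
    have : Finite (R →ₐ[k] M) := Finite.of_injective (fun φ (a : t) => φ a.1) fun φ φ' h =>
      AlgHom.ext_of_adjoin_eq_top ht fun a ha => congrFun h ⟨a, ha⟩
    refine Finite.of_injective
      (fun y => (exists_algHom j hj y.1 (hr ▸ y.2)).choose) fun y y' h => Subtype.ext (Over.OverMorphism.ext ?_)
    rw [(exists_algHom j hj y.1 (hr ▸ y.2)).choose_spec, (exists_algHom j hj y'.1 (hr ▸ y'.2)).choose_spec]
    simp only [h]
  have := hs.to_subtype
  refine Finite.of_surjective (fun p : Σ U : s, {y : SGA7.pt (K := k) M ⟶ W //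
      y.left (IsLocalRing.closedPoint M) ∈ U.1.1} => p.2.1) fun y => ?_
  have hy : y.left (IsLocalRing.closedPoint M) ∈ (⊤ : W.left.Opens) := trivial
  rw [hcov] at hy
  simp only [TopologicalSpace.Opens.mem_iSup] at hy
  obtain ⟨U, hU, hy⟩ := hy
  exact ⟨⟨⟨U, hU⟩, ⟨y, hy⟩⟩, rfl⟩

end Points

variable {K Ω : Type u} [Field K] [Field Ω] [Algebra k K] [Algebra k Ω] [Algebra K Ω] [IsScalarTower k K Ω]

instance tower_level (L : IntermediateField K Ω) : IsScalarTower k L Ω :=
  IsScalarTower.of_algebraMap_eq fun x => (IsScalarTower.algebraMap_apply k K Ω x).trans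
    (by simp [IsScalarTower.algebraMap_apply k K L x])

/-- A point with values in an algebraic extension is defined over a finite subextension. -/
theorem exists_level {W : Over (Spec (CommRingCat.of k))} [LocallyOfFiniteType W.hom]
    [Algebra.IsAlgebraic K Ω] (y : SGA7.pt (K := k) Ω ⟶ W) :
    ∃ L₀ : IntermediateField K Ω, FiniteDimensional K L₀ ∧ ∀ L : IntermediateField K Ω, L₀ ≤ L →
      ∃ y₀ : SGA7.pt (K := k) L ⟶ W, cover k L Ω ≫ y₀ = y := by
  classical
  obtain ⟨U, hU, hy, -⟩ := exists_chart y
  obtain ⟨R, _, _, _, j, _, hr, hj⟩ := exists_chart_alg hU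
  obtain ⟨φ, hφ⟩ := exists_algHom j hj y (hr ▸ hy)
  obtain ⟨t, ht⟩ := (inferInstance : Algebra.FiniteType k R).out
  refine ⟨IntermediateField.adjoin K (φ '' t : Set Ω), ?_, fun L hL => ?_⟩
  · have := (t.finite_toSet.image φ).to_subtype
    exact IntermediateField.finiteDimensional_adjoin fun x _ => Algebra.IsIntegral.isIntegral x
  · have hmem : ∀ r : R, φ r ∈ (IsScalarTower.toAlgHom k L Ω).range := by
      have : Algebra.adjoin k (t : Set R) ≤ ((IsScalarTower.toAlgHom k L Ω).range).comap φ :=
        Algebra.adjoin_le fun a ha => ⟨⟨φ a, hL (IntermediateField.subset_adjoin _ _ ⟨a, ha, rfl⟩)⟩, rfl⟩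
      exact fun r => this (ht ▸ Algebra.mem_top)
    let φ₀ : R →ₐ[k] L :=
      ((AlgEquiv.ofInjective (IsScalarTower.toAlgHom k L Ω) (fun a b h => Subtype.ext h)).symm : _ →ₐ[k] L).comp
        (φ.codRestrict _ hmem)
    have hφ₀ : ∀ r, algebraMap L Ω (φ₀ r) = φ r := fun r =>
      congrArg Subtype.val ((AlgEquiv.ofInjective (IsScalarTower.toAlgHom k L Ω)
        (fun a b h => Subtype.ext h)).apply_symm_apply (φ.codRestrict _ hmem r))
    refine ⟨Over.homMk (Spec.map (CommRingCat.ofHom φ₀.toRingHom) ≫ j) ?_, Over.OverMorphism.ext ?_⟩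
    · show (Spec.map _ ≫ j) ≫ W.hom = Spec.map _
      rw [Category.assoc, hj, ← Spec.map_comp]
      congr 1
      ext c
      exact congrArg Subtype.val (φ₀.commutes c)
    · show Spec.map _ ≫ Spec.map _ ≫ j = y.left
      rw [hφ, ← Spec.map_comp_assoc]
      congr 2
      ext r
      exact hφ₀ r

end Groth.Agent.StkDesc10
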